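import Mathlib

/-!
Bordering of alternating matrices and the dimension of their kernels.
-/

set_option autoImplicit false

namespace CfsgLib.SpUnipCount

open Matrix Module

variable {F : Type*} [Field F] {k : ℕ}

/-- Alternating matrices. -/
def IsAltMat (A : Matrix (Fin k) (Fin k) F) : Prop :=
  (∀ i, A i i = 0) ∧ ∀ i j, A i j = - A j i

/-- The radical of an alternating matrix, in coordinates. -/
def rad (A : Matrix (Fin k) (Fin k) F) : Submodule F (Fin k → F) :=
  LinearMap.ker A.vecMulLinear

theorem IsAltMat.vecMul_dot {A : Matrix (Fin k) (Fin k) F} (h : IsAltMat A) (u c : Fin k → F) :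
    (u ᵥ* A) ⬝ᵥ c = - ((c ᵥ* A) ⬝ᵥ u) := by
  simp only [vecMul, dotProduct, Finset.sum_mul]
  rw [Finset.sum_comm, ← Finset.sum_neg_distrib]
  refine Finset.sum_congr rfl fun i _ => ?_
  rw [← Finset.sum_neg_distrib]
  refine Finset.sum_congr rfl fun j _ => ?_
  rw [h.2 i j]
  ring

theorem IsAltMat.vecMul_self {A : Matrix (Fin k) (Fin k) F} (h : IsAltMat A) (u : Fin k → F) :
    (u ᵥ* A) ⬝ᵥ u = 0 := by
  induction k with
  | zero => simp [dotProduct]
  | succ n ih =>
    have hA : IsAltMat (A.submatrix Fin.succ Fin.succ) := ⟨fun i => h.1 _, fun i j => h.2 _ _⟩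
    have h0 := ih hA (fun i => u i.succ)
    simp only [vecMul, dotProduct, Finset.sum_mul, submatrix_apply] at h0 ⊢
    simp only [Fin.sum_univ_succ, Finset.sum_add_distrib, h.1 0]
    rw [h0, mul_zero, zero_mul, zero_add, add_zero, ← Finset.sum_add_distrib]
    exact Finset.sum_eq_zero fun i _ => by rw [h.2 0 i.succ]; ring

theorem IsAltMat.mem_range_iff {A : Matrix (Fin k) (Fin k) F} (h : IsAltMat A) (f : Fin k → F) :
    f ∈ LinearMap.range A.vecMulLinear ↔ ∀ c ∈ rad A, c ⬝ᵥ f = 0 := by
  classical
  let Ψ : (Fin k → F) →ₗ[F] Dual F (rad A) :=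
    (rad A).subtype.dualMap ∘ₗ (dotProductEquiv F (Fin k)).toLinearMap
  have hΨ : ∀ g, g ∈ LinearMap.ker Ψ ↔ ∀ c ∈ rad A, c ⬝ᵥ g = 0 := fun g => by
    rw [LinearMap.mem_ker, LinearMap.ext_iff]
    simp [Ψ, dotProduct_comm g]
  have hsur : Function.Surjective Ψ :=
    (LinearMap.dualMap_surjective_of_injective (Submodule.injective_subtype _)).comp
      (dotProductEquiv F (Fin k)).surjective
  have hle : LinearMap.range A.vecMulLinear ≤ LinearMap.ker Ψ := by
    rintro g ⟨u, rfl⟩
    rw [hΨ]
    intro c hc
    rw [dotProduct_comm, Matrix.vecMulLinear_apply, h.vecMul_dot,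
      show c ᵥ* A = 0 from hc, zero_dotProduct, neg_zero]
  have hdim : finrank F (LinearMap.ker Ψ) ≤ finrank F (LinearMap.range A.vecMulLinear) := by
    have h1 : finrank F (LinearMap.range A.vecMulLinear) + finrank F (rad A) =
        finrank F (Fin k → F) := A.vecMulLinear.finrank_range_add_finrank_ker
    have h2 := Ψ.finrank_range_add_finrank_ker
    rw [LinearMap.range_eq_top.mpr hsur, finrank_top, Subspace.dual_finrank_eq] at h2
    linarith
  rw [← hΨ, Submodule.eq_of_le_of_finrank_le hle hdim]

theorem card_range [Fintype F] (A : Matrix (Fin k) (Fin k) F) :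
    Nat.card (LinearMap.range A.vecMulLinear) = Fintype.card F ^ (k - finrank F (rad A)) := by
  have h1 := A.vecMulLinear.finrank_range_add_finrank_ker
  rw [finrank_fin_fun] at h1
  rw [Module.natCard_eq_pow_finrank (K := F), Nat.card_eq_fintype_card]
  congr 1
  unfold rad
  omega

/-- `A` with a new last row `-f` and column `f`. -/
def border (A : Matrix (Fin k) (Fin k) F) (f : Fin k → F) : Matrix (Fin (k + 1)) (Fin (k + 1)) F :=
  Fin.snoc (fun i => Fin.snoc (A i) (f i)) (Fin.snoc (-f) 0)

theorem border_castSucc (A : Matrix (Fin k) (Fin k) F) (f : Fin k → F) (i j : Fin k) :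
    border A f i.castSucc j.castSucc = A i j := by
  simp [border]

theorem border_col (A : Matrix (Fin k) (Fin k) F) (f : Fin k → F) (i : Fin k) :
    border A f i.castSucc (Fin.last k) = f i := by
  simp [border]

theorem border_row (A : Matrix (Fin k) (Fin k) F) (f : Fin k → F) (i : Fin k) :
    border A f (Fin.last k) i.castSucc = - f i := by
  simp [border]

theorem border_last (A : Matrix (Fin k) (Fin k) F) (f : Fin k → F) :
    border A f (Fin.last k) (Fin.last k) = 0 := by
  simp [border]

theorem mem_rad_border (A : Matrix (Fin k) (Fin k) F) (f : Fin k → F) (x : Fin (k + 1) → F) :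
    x ∈ rad (border A f) ↔ (fun i => x i.castSucc) ᵥ* A = x (Fin.last k) • f ∧
      (fun i => x i.castSucc) ⬝ᵥ f = 0 := by
  show x ᵥ* border A f = 0 ↔ _
  constructor
  · intro h
    refine ⟨funext fun j => ?_, ?_⟩
    · have h1 := congrFun h j.castSucc
      simp only [vecMul, dotProduct, Fin.sum_univ_castSucc, border_castSucc, border_row,
        Pi.zero_apply, mul_neg, add_neg_eq_zero] at h1
      simpa [vecMul, dotProduct] using h1
    · have h1 := congrFun h (Fin.last k)
      simp only [vecMul, dotProduct, Fin.sum_univ_castSucc, border_col, border_last,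
        Pi.zero_apply, mul_zero, add_zero] at h1
      simpa [dotProduct] using h1
  · rintro ⟨h1, h2⟩
    funext j
    induction j using Fin.lastCases with
    | last =>
      simp only [vecMul, dotProduct, Fin.sum_univ_castSucc, border_col, border_last,
        Pi.zero_apply, mul_zero, add_zero]
      exact h2
    | cast j =>
      have := congrFun h1 j
      simp only [vecMul, dotProduct, Pi.smul_apply, smul_eq_mul] at this
      simp only [vecMul, dotProduct, Fin.sum_univ_castSucc, border_castSucc, border_row,
        Pi.zero_apply, mul_neg, add_neg_eq_zero]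
      exact this

theorem finrank_rad_border_of_mem {A : Matrix (Fin k) (Fin k) F} (h : IsAltMat A) {f : Fin k → F}
    (hf : f ∈ LinearMap.range A.vecMulLinear) :
    finrank F (rad (border A f)) = finrank F (rad A) + 1 := by
  obtain ⟨u, rfl⟩ := hf
  let Φ : ((Fin k → F) × F) →ₗ[F] (Fin (k + 1) → F) :=
    { toFun := fun p => Fin.snoc (p.1 + p.2 • u) p.2
      map_add' := fun p p' => by
        ext i
        induction i using Fin.lastCases with
        | last => simp
        | cast i => simp; ring
      map_smul' := fun c p => by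
        ext i
        induction i using Fin.lastCases with
        | last => simp
        | cast i => simp; ring }
  have hinj : Function.Injective Φ := by
    rw [injective_iff_map_eq_zero]
    rintro ⟨c, d⟩ hcd
    have hd : d = 0 := by simpa [Φ] using congrFun hcd (Fin.last k)
    subst hd
    refine Prod.ext (funext fun i => ?_) rfl
    simpa [Φ] using congrFun hcd i.castSucc
  have heq : rad (border A (A.vecMulLinear u)) = ((rad A).prod ⊤).map Φ := by
    ext x
    rw [mem_rad_border, Submodule.mem_map]
    constructor
    · rintro ⟨h1, -⟩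
      refine ⟨((fun i => x i.castSucc) - x (Fin.last k) • u, x (Fin.last k)), ⟨?_, trivial⟩, ?_⟩
      · show ((fun i => x i.castSucc) - x (Fin.last k) • u) ᵥ* A = 0
        rw [sub_vecMul, smul_vecMul, h1, Matrix.vecMulLinear_apply, sub_self]
      · ext i
        induction i using Fin.lastCases with
        | last => simp [Φ]
        | cast i => simp [Φ]
    · rintro ⟨⟨c, d⟩, ⟨hc, -⟩, rfl⟩
      have hc' : c ᵥ* A = 0 := hc
      have e : (fun i : Fin k => Φ (c, d) i.castSucc) = c + d • u := funext fun i => by simp [Φ]
      rw [e, show Φ (c, d) (Fin.last k) = d by simp [Φ], Matrix.vecMulLinear_apply]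
      refine ⟨by rw [add_vecMul, smul_vecMul, hc', zero_add], ?_⟩
      rw [add_dotProduct, smul_dotProduct, dotProduct_comm c, h.vecMul_dot u c, hc',
        dotProduct_comm u, h.vecMul_self]
      simp
  have hΦ : Function.Injective (Φ ∘ₗ (LinearMap.prodMap (rad A).subtype LinearMap.id)) :=
    hinj.comp (Function.Injective.prodMap Subtype.val_injective Function.injective_id)
  have heq' : ((rad A).prod (⊤ : Submodule F F)).map Φ =
      LinearMap.range (Φ ∘ₗ (LinearMap.prodMap (rad A).subtype LinearMap.id)) := by
    rw [LinearMap.range_comp, LinearMap.range_prodMap, Submodule.range_subtype,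
      LinearMap.range_id]
  rw [heq, heq', LinearMap.finrank_range_of_inj hΦ, Module.finrank_prod, Module.finrank_self]

theorem finrank_rad_border_of_notMem {A : Matrix (Fin k) (Fin k) F} (h : IsAltMat A)
    {f : Fin k → F} (hf : f ∉ LinearMap.range A.vecMulLinear) :
    finrank F (rad (border A f)) + 1 = finrank F (rad A) := by
  let φ : rad A →ₗ[F] F :=
    { toFun := fun c => (c : Fin k → F) ⬝ᵥ f
      map_add' := fun c c' => by simp [add_dotProduct]
      map_smul' := fun a c => by simp [smul_dotProduct] }
  have hφ : φ ≠ 0 := fun h0 => hf ((h.mem_range_iff f).mpr fun c hc =>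
    LinearMap.congr_fun h0 ⟨c, hc⟩)
  have hr : finrank F (LinearMap.range φ) = 1 := by
    rw [LinearMap.range_eq_top.mpr (LinearMap.surjective hφ), finrank_top, Module.finrank_self]
  have h1 := φ.finrank_range_add_finrank_ker
  let J : (Fin k → F) →ₗ[F] (Fin (k + 1) → F) :=
    { toFun := fun c => Fin.snoc c 0
      map_add' := fun c c' => by
        ext i
        induction i using Fin.lastCases with
        | last => simp
        | cast i => simp
      map_smul' := fun a c => by
        ext i
        induction i using Fin.lastCases with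
        | last => simp
        | cast i => simp }
  have hJ : Function.Injective J := fun c c' hc => funext fun i => by
    simpa [J] using congrFun hc i.castSucc
  have heq : rad (border A f) = (LinearMap.ker φ).map (J ∘ₗ (rad A).subtype) := by
    ext x
    rw [mem_rad_border, Submodule.mem_map]
    constructor
    · rintro ⟨h1', h2⟩
      have hd : x (Fin.last k) = 0 := by
        by_contra hd
        refine hf ⟨(x (Fin.last k))⁻¹ • fun i => x i.castSucc, ?_⟩
        rw [map_smul, Matrix.vecMulLinear_apply, h1', smul_smul, inv_mul_cancel₀ hd, one_smul]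
      rw [hd, zero_smul] at h1'
      refine ⟨⟨fun i => x i.castSucc, h1'⟩, h2, ?_⟩
      ext i
      induction i using Fin.lastCases with
      | last => simp [J, hd]
      | cast i => simp [J]
    · rintro ⟨⟨c, hc⟩, hcf, rfl⟩
      have e : (fun i : Fin k => (J ∘ₗ (rad A).subtype) ⟨c, hc⟩ i.castSucc) = c :=
        funext fun i => by simp [J]
      rw [e]
      refine ⟨?_, hcf⟩
      rw [show (J ∘ₗ (rad A).subtype) ⟨c, hc⟩ (Fin.last k) = 0 by simp [J], zero_smul]
      exact hc
  rw [heq, (Submodule.equivMapOfInjective (J ∘ₗ (rad A).subtype)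
    (hJ.comp Subtype.val_injective) _).finrank_eq.symm]
  omega

end CfsgLib.SpUnipCount
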