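import Cfsg.Agent.Lib.SpUnipCount.Fixed

/-!
The Fitting decomposition of `g - 1` for elements `g` of a symplectic group, as a counting formula.
-/

set_option autoImplicit false

namespace CfsgLib.SpUnipCount

open Matrix CfsgLib.SympGeom CfsgLib.Linear.Symp Cfsg
open Module (finrank)

variable {F : Type*} [Field F] {m j r : ℕ}

/-- Isometries between two spaces with bilinear forms. -/
abbrev Isom {V₁ V₂ : Type*} [AddCommGroup V₁] [Module F V₁] [AddCommGroup V₂] [Module F V₂]
    (B₁ : LinearMap.BilinForm F V₁) (B₂ : LinearMap.BilinForm F V₂) : Type _ :=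
  {φ : V₁ ≃ₗ[F] V₂ // ∀ u v, B₂ (φ u) (φ v) = B₁ u v}

/-- `g - 1`. -/
def shift (g : symplecticGroup (Fin m) F) : Module.End F (Fin m ⊕ Fin m → F) :=
  Matrix.toLin' g.1 - 1

theorem shift_apply (g : symplecticGroup (Fin m) F) (v : Fin m ⊕ Fin m → F) :
    shift g v = g • v - v := by
  simp [shift, Linear.Symp.smul_def]

/-- Unipotent elements. -/
abbrev Unip (m : ℕ) (F : Type*) [Field F] : Type _ :=
  {g : symplecticGroup (Fin m) F // IsNilpotent (shift g)}

/-- The generalised fixed space. -/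
def genFix (g : symplecticGroup (Fin m) F) : Submodule F (Fin m ⊕ Fin m → F) :=
  LinearMap.ker (shift g ^ (2 * m + 1))

/-- Its complement. -/
def genMove (g : symplecticGroup (Fin m) F) : Submodule F (Fin m ⊕ Fin m → F) :=
  LinearMap.range (shift g ^ (2 * m + 1))

theorem pow_eq_zero_of_nilpotent {g : symplecticGroup (Fin m) F} (h : IsNilpotent (shift g))
    {n : ℕ} (hn : 2 * m ≤ n) : shift g ^ n = 0 := by
  obtain ⟨k, hk⟩ := h
  refine LinearMap.ext fun v => ?_
  have h1 : v ∈ LinearMap.ker (shift g ^ k) := by simp [hk]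
  have h2 := Module.End.ker_pow_le_ker_pow_finrank (shift g) k h1
  rw [finrank_space] at h2
  have h3 : (shift g ^ (n - 2 * m)) ((shift g ^ (2 * m)) v) = 0 := by
    rw [LinearMap.mem_ker.mp h2, map_zero]
  rw [← Module.End.mul_apply, ← pow_add, Nat.sub_add_cancel hn] at h3
  simpa using h3

theorem ker_pow_stable (g : symplecticGroup (Fin m) F) {n : ℕ} {v : Fin m ⊕ Fin m → F}
    (h : (shift g ^ n) v = 0) : v ∈ genFix g := by
  have h2 := Module.End.ker_pow_le_ker_pow_finrank (shift g) n (LinearMap.mem_ker.mpr h)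
  rw [finrank_space] at h2
  rw [genFix, LinearMap.mem_ker, pow_succ', Module.End.mul_apply, LinearMap.mem_ker.mp h2, map_zero]

theorem isCompl_gen (g : symplecticGroup (Fin m) F) : IsCompl (genFix g) (genMove g) := by
  have hd : Disjoint (genFix g) (genMove g) := by
    rw [Submodule.disjoint_def]
    rintro _ hx ⟨y, rfl⟩
    have h : (shift g ^ ((2 * m + 1) + (2 * m + 1))) y = 0 := by
      rw [pow_add, Module.End.mul_apply]; exact hx
    exact ker_pow_stable g h
  refine ⟨hd, ?_⟩
  rw [codisjoint_iff]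
  refine Submodule.eq_top_of_disjoint _ _ (le_of_eq ?_) hd
  rw [genFix, genMove, add_comm]
  exact ((shift g ^ (2 * m + 1)).finrank_range_add_finrank_ker).symm

theorem orth_pow (g : symplecticGroup (Fin m) F) : ∀ (n : ℕ) (w : Fin m ⊕ Fin m → F),
    (shift g ^ n) w = 0 → ∀ x, sympForm m F w ((shift g ^ n) x) = 0 := by
  intro n
  induction n with
  | zero =>
    intro w hw x
    rw [pow_zero, Module.End.one_apply] at hw
    rw [hw, form_zero_left]
  | succ n ih =>
    intro w hw x
    rw [pow_succ', Module.End.mul_apply, shift_apply, form_sub_right]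
    have h1 : sympForm m F w (g • ((shift g ^ n) x)) = sympForm m F (g⁻¹ • w) ((shift g ^ n) x) := by
      conv_rhs => rw [← form_smul_smul g, smul_inv_smul]
    rw [h1, ← form_sub_left]
    refine ih _ ?_ x
    have h2 : g⁻¹ • w - w = - (Matrix.toLin' g⁻¹.1) (shift g w) := by
      rw [shift_apply, map_sub, Matrix.toLin'_apply, Matrix.toLin'_apply, ← Linear.Symp.smul_def,
        ← Linear.Symp.smul_def, inv_smul_smul]
      abel
    have hc : Commute (shift g) (Matrix.toLin' g⁻¹.1) := by
      refine Commute.sub_left ?_ (Commute.one_left _)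
      rw [commute_iff_eq, Module.End.mul_eq_comp, Module.End.mul_eq_comp, ← Matrix.toLin'_mul,
        ← Matrix.toLin'_mul, ← Submonoid.coe_mul, ← Submonoid.coe_mul, mul_inv_cancel, inv_mul_cancel]
    rw [h2, map_neg, ← Module.End.mul_apply, (hc.pow_left n).eq, Module.End.mul_apply,
      ← Module.End.mul_apply (shift g ^ n), ← pow_succ, hw, map_zero, neg_zero]

theorem orth_gen {g : symplecticGroup (Fin m) F} {w w' : Fin m ⊕ Fin m → F}
    (hw : w ∈ genFix g) (hw' : w' ∈ genMove g) : sympForm m F w w' = 0 := by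
  obtain ⟨x, rfl⟩ := hw'
  exact orth_pow g _ w hw x

theorem smul_mem_genFix {g : symplecticGroup (Fin m) F} {w : Fin m ⊕ Fin m → F}
    (hw : w ∈ genFix g) : g • w ∈ genFix g := by
  rw [show g • w = shift g w + w by rw [shift_apply]; abel]
  refine add_mem ?_ hw
  rw [genFix, LinearMap.mem_ker, ← Module.End.mul_apply, ← pow_succ, pow_succ', Module.End.mul_apply,
    LinearMap.mem_ker.mp hw, map_zero]

theorem smul_mem_genMove {g : symplecticGroup (Fin m) F} {w : Fin m ⊕ Fin m → F}
    (hw : w ∈ genMove g) : g • w ∈ genMove g := by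
  rw [show g • w = shift g w + w by rw [shift_apply]; abel]
  refine add_mem ?_ hw
  obtain ⟨x, rfl⟩ := hw
  exact ⟨shift g x, by rw [← Module.End.mul_apply, ← pow_succ, pow_succ', Module.End.mul_apply]⟩

/-- Symplectic matrices as isometries. -/
noncomputable def spEquiv (m : ℕ) (F : Type*) [Field F] :
    symplecticGroup (Fin m) F ≃ Isom (sympBilin m F) (sympBilin m F) where
  toFun g :=
    ⟨{ toFun := fun v => g • v
       map_add' := fun u v => by simp [Linear.Symp.smul_def, mulVec_add]
       map_smul' := fun c v => by simp [Linear.Symp.smul_def, mulVec_smul]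
       invFun := fun v => g⁻¹ • v
       left_inv := fun v => inv_smul_smul g v
       right_inv := fun v => smul_inv_smul g v }, fun u v => form_smul_smul g u v⟩
  invFun φ := Classical.choose (exists_of_linearEquiv φ.1 φ.2)
  left_inv g := by
    refine Linear.Symp.group_ext fun v => ?_
    exact Classical.choose_spec (exists_of_linearEquiv (m := m) (F := F) _ (fun u v => form_smul_smul g u v)) v
  right_inv φ := Subtype.ext (LinearEquiv.ext fun v =>
    Classical.choose_spec (exists_of_linearEquiv φ.1 φ.2) v)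

theorem spEquiv_apply (g : symplecticGroup (Fin m) F) (v : Fin m ⊕ Fin m → F) :
    (spEquiv m F g).1 v = g • v := rfl

theorem spEquiv_symm_smul (φ : Isom (sympBilin m F) (sympBilin m F)) (v : Fin m ⊕ Fin m → F) :
    (spEquiv m F).symm φ • v = φ.1 v :=
  Classical.choose_spec (exists_of_linearEquiv φ.1 φ.2) v

/-- The orthogonal sum of two standard forms. -/
def sumForm (j r : ℕ) (F : Type*) [Field F] :
    LinearMap.BilinForm F ((Fin j ⊕ Fin j → F) × (Fin r ⊕ Fin r → F)) :=
  (sympBilin j F).compl₁₂ (LinearMap.fst F _ _) (LinearMap.fst F _ _) +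
    (sympBilin r F).compl₁₂ (LinearMap.snd F _ _) (LinearMap.snd F _ _)

theorem sumForm_apply (p p' : (Fin j ⊕ Fin j → F) × (Fin r ⊕ Fin r → F)) :
    sumForm j r F p p' = sympForm j F p.1 p'.1 + sympForm r F p.2 p'.2 := rfl

theorem nonempty_isom_sum (j r : ℕ) (F : Type*) [Field F] :
    Nonempty (Isom (sumForm j r F) (sympBilin (j + r) F)) := by
  let e : ((Fin j ⊕ Fin j → F) × (Fin r ⊕ Fin r → F)) ≃ₗ[F] (Fin (j + r) ⊕ Fin (j + r) → F) :=
    { toFun := fun p => Sum.elim (Fin.append (p.1 ∘ Sum.inl) (p.2 ∘ Sum.inl))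
        (Fin.append (p.1 ∘ Sum.inr) (p.2 ∘ Sum.inr))
      map_add' := fun p q => by
        ext (i | i) <;> induction i using Fin.addCases <;> simp
      map_smul' := fun c p => by
        ext (i | i) <;> induction i using Fin.addCases <;> simp
      invFun := fun v => (Sum.elim (fun i => v (.inl (Fin.castAdd r i))) (fun i => v (.inr (Fin.castAdd r i))),
        Sum.elim (fun i => v (.inl (Fin.natAdd j i))) (fun i => v (.inr (Fin.natAdd j i))))
      left_inv := fun p => by
        refine Prod.ext ?_ ?_ <;> ext (i | i) <;> simp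
      right_inv := fun v => by
        ext (i | i) <;> induction i using Fin.addCases <;> simp }
  refine ⟨⟨e, fun u v => ?_⟩⟩
  simp only [sympBilin_apply, sumForm_apply, sympForm_eq_sum, Fin.sum_univ_add, e]
  simp

/-- An isometry of an orthogonal sum preserving both summands splits. -/
theorem split_isom (ψ : Isom (sumForm j r F) (sumForm j r F))
    (h1 : ∀ x, (ψ.1 (x, 0)).2 = 0) (h2 : ∀ y, (ψ.1 (0, y)).1 = 0) :
    ∃ (a : symplecticGroup (Fin j) F) (b : symplecticGroup (Fin r) F),
      ∀ p, ψ.1 p = (a • p.1, b • p.2) := by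
  have hadd : ∀ p, ψ.1 p = ((ψ.1 (p.1, 0)).1, (ψ.1 (0, p.2)).2) := fun p => by
    conv_lhs => rw [show p = (p.1, 0) + (0, p.2) by simp, map_add]
    refine Prod.ext ?_ ?_
    · simp [h2]
    · simp [h1]
  let fa : (Fin j ⊕ Fin j → F) →ₗ[F] (Fin j ⊕ Fin j → F) :=
    LinearMap.fst F _ _ ∘ₗ ψ.1.toLinearMap ∘ₗ LinearMap.inl F _ _
  let fb : (Fin r ⊕ Fin r → F) →ₗ[F] (Fin r ⊕ Fin r → F) :=
    LinearMap.snd F _ _ ∘ₗ ψ.1.toLinearMap ∘ₗ LinearMap.inr F _ _
  have ha : ∀ u v, sympForm j F (fa u) (fa v) = sympForm j F u v := fun u v => by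
    have h := ψ.2 (u, 0) (v, 0)
    simp only [sumForm_apply, h1, form_zero_left, add_zero] at h
    exact h
  have hb : ∀ u v, sympForm r F (fb u) (fb v) = sympForm r F u v := fun u v => by
    have h := ψ.2 (0, u) (0, v)
    simp only [sumForm_apply, h2, form_zero_left, zero_add] at h
    exact h
  obtain ⟨a, ha'⟩ := exists_extend (m := j) ⊤ fa (fun u _ v _ => ha u v) (fun u _ hu =>
    eq_zero_of_forall_form fun w => by rw [← ha u w, hu, form_zero_left])
  obtain ⟨b, hb'⟩ := exists_extend (m := r) ⊤ fb (fun u _ v _ => hb u v) (fun u _ hu =>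
    eq_zero_of_forall_form fun w => by rw [← hb u w, hu, form_zero_left])
  refine ⟨a, b, fun p => ?_⟩
  rw [hadd, Linear.Symp.smul_def, Linear.Symp.smul_def, ha' _ trivial, hb' _ trivial]
  rfl

theorem exists_std (W : Submodule F (Fin m ⊕ Fin m → F))
    (hW : ∀ x ∈ W, (∀ y ∈ W, sympForm m F x y = 0) → x = 0) :
    ∃ j, finrank F W = 2 * j ∧ ∃ ψ : (Fin j ⊕ Fin j → F) ≃ₗ[F] W,
      ∀ u v, sympForm m F (ψ u : Fin m ⊕ Fin m → F) (ψ v) = sympForm j F u v := by
  obtain ⟨j, k, b, hjk, hspan, h1, h2, h3, h4⟩ :=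
    CfsgLib.Forms.exists_symplectic_family (sympBilin m F) sympBilin_alt _ W rfl
  have hli : LinearIndependent F b := by
    rw [linearIndependent_iff_card_eq_finrank_span, Set.finrank, hspan]
    simp [hjk]
  have hk : k = 0 := by
    by_contra hk
    have hmem : ∀ i, b (.inr i) ∈ W := fun i => by
      rw [← hspan]; exact Submodule.subset_span ⟨_, rfl⟩
    exact hli.ne_zero _ (hW _ (hmem ⟨0, Nat.pos_of_ne_zero hk⟩) fun y hy => h4 _ y hy)
  subst hk
  refine ⟨j, by omega, ?_⟩
  let c : Fin j ⊕ Fin j → (Fin m ⊕ Fin m → F) := fun i => b (.inl i.swap)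
  have hcl : LinearIndependent F c := hli.comp _ (Sum.inl_injective.comp Sum.swap_leftInverse.injective)
  have hcs : LinearMap.range (Fintype.linearCombination F c) = W := by
    rw [Fintype.range_linearCombination, ← hspan]
    congr 1
    ext x
    constructor
    · rintro ⟨i, rfl⟩
      exact ⟨_, rfl⟩
    · rintro ⟨(i | i), rfl⟩
      · exact ⟨i.swap, by simp [c]⟩
      · exact i.elim0
  refine ⟨(LinearEquiv.ofInjective _ hcl.fintypeLinearCombination_injective).trans
    (LinearEquiv.ofEq _ _ hcs), fun u v => ?_⟩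
  show sympForm m F (Fintype.linearCombination F c u) (Fintype.linearCombination F c v) = _
  have h3' : ∀ i i' : Fin j, sympBilin m F (b (.inl (.inr i))) (b (.inl (.inl i'))) =
      if i' = i then -1 else 0 := fun i i' => by
    rw [sympBilin_apply, form_swap, ← sympBilin_apply, h1]
    split_ifs <;> simp
  rw [← sympBilin_apply]
  simp only [Fintype.linearCombination_apply, Fintype.sum_sum_type, map_add, map_sum, map_smul,
    LinearMap.add_apply, LinearMap.coe_sum, Finset.sum_apply, LinearMap.smul_apply, c, Sum.swap_inl, Sum.swap_inr, h1, h2, h3,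
    h3', smul_eq_mul, mul_ite, mul_one, mul_zero, mul_neg, Finset.sum_ite_eq,
    Finset.sum_ite_eq', Finset.mem_univ, if_true, add_zero, zero_add,
    sympForm_eq_sum, ← Finset.sum_add_distrib]
  exact Finset.sum_congr rfl fun i _ => by ring

/-- The isometries mapping the summands onto the Fitting decomposition of `g`. -/
abbrev Adapted (j r : ℕ) (g : symplecticGroup (Fin (j + r)) F) : Type _ :=
  {φ : Isom (sumForm j r F) (sympBilin (j + r) F) //
    (∀ x, φ.1 (x, 0) ∈ genFix g) ∧ ∀ y, φ.1 (0, y) ∈ genMove g}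

theorem eq_zero_of_mem_both {g : symplecticGroup (Fin m) F} {w : Fin m ⊕ Fin m → F}
    (h1 : w ∈ genFix g) (h2 : w ∈ genMove g) : w = 0 :=
  Submodule.disjoint_def.mp (isCompl_gen g).disjoint w h1 h2

theorem Adapted.symm_fix {g : symplecticGroup (Fin (j + r)) F} (φ : Adapted j r g)
    {w : Fin (j + r) ⊕ Fin (j + r) → F} (hw : w ∈ genFix g) : (φ.1.1.symm w).2 = 0 := by
  set p := φ.1.1.symm w
  have h : φ.1.1 (0, p.2) = w - φ.1.1 (p.1, 0) := by
    rw [eq_sub_iff_add_eq, ← map_add, show ((0 : Fin j ⊕ Fin j → F), p.2) + (p.1, 0) = p by simp]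
    exact φ.1.1.apply_symm_apply w
  have h0 := eq_zero_of_mem_both (h ▸ sub_mem hw (φ.2.1 p.1)) (φ.2.2 p.2)
  simpa using congrArg Prod.snd (φ.1.1.map_eq_zero_iff.mp h0)

theorem Adapted.symm_move {g : symplecticGroup (Fin (j + r)) F} (φ : Adapted j r g)
    {w : Fin (j + r) ⊕ Fin (j + r) → F} (hw : w ∈ genMove g) : (φ.1.1.symm w).1 = 0 := by
  set p := φ.1.1.symm w
  have h : φ.1.1 (p.1, 0) = w - φ.1.1 (0, p.2) := by
    rw [eq_sub_iff_add_eq, ← map_add, show (p.1, (0 : Fin r ⊕ Fin r → F)) + (0, p.2) = p by simp]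
    exact φ.1.1.apply_symm_apply w
  have h0 := eq_zero_of_mem_both (φ.2.1 p.1) (h ▸ sub_mem hw (φ.2.2 p.2))
  simpa using congrArg Prod.fst (φ.1.1.map_eq_zero_iff.mp h0)

theorem card_adapted (g : symplecticGroup (Fin (j + r)) F) (hg : finrank F (genFix g) = 2 * j) :
    Nat.card (Adapted j r g) =
      Nat.card (symplecticGroup (Fin j) F × symplecticGroup (Fin r) F) := by
  have hc := isCompl_gen g
  have htop : ∀ x, ∃ a ∈ genFix g, ∃ b ∈ genMove g, a + b = x := fun x =>
    Submodule.mem_sup.mp (hc.sup_eq_top ▸ Submodule.mem_top)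
  have hW : ∀ x ∈ genFix g, (∀ y ∈ genFix g, sympForm (j + r) F x y = 0) → x = 0 :=
    fun x hx h => eq_zero_of_forall_form fun w => by
      obtain ⟨a, ha, b, hb, rfl⟩ := htop w
      rw [form_add_right, h a ha, orth_gen hx hb, add_zero]
  have hW' : ∀ x ∈ genMove g, (∀ y ∈ genMove g, sympForm (j + r) F x y = 0) → x = 0 :=
    fun x hx h => eq_zero_of_forall_form fun w => by
      obtain ⟨a, ha, b, hb, rfl⟩ := htop w
      rw [form_add_right, h b hb, add_zero, form_swap a x, orth_gen ha hx, neg_zero]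
  obtain ⟨j', hj', ψ₁, hψ₁⟩ := exists_std _ hW
  obtain ⟨r', hr', ψ₂, hψ₂⟩ := exists_std _ hW'
  have hdim : finrank F (genFix g) + finrank F (genMove g) = 2 * (j + r) := by
    rw [Submodule.finrank_add_eq_of_isCompl hc, finrank_space]
  obtain rfl : j' = j := by omega
  obtain rfl : r' = r := by omega
  obtain ⟨φ₁, hφ₁⟩ : ∃ φ₁ : Isom (sumForm j' r' F) (sympBilin (j' + r') F),
      ∀ p, φ₁.1 p = (ψ₁ p.1 : Fin (j' + r') ⊕ Fin (j' + r') → F) + ψ₂ p.2 :=
    ⟨⟨(ψ₁.prodCongr ψ₂).trans (Submodule.prodEquivOfIsCompl _ _ hc), fun u v => by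
      simp only [LinearEquiv.trans_apply, LinearEquiv.prodCongr_apply,
        Submodule.coe_prodEquivOfIsCompl', sympBilin_apply, sumForm_apply, form_add_left,
        form_add_right, hψ₁, hψ₂, orth_gen (ψ₁ u.1).2 (ψ₂ v.2).2]
      rw [form_swap (ψ₁ v.1 : Fin (j' + r') ⊕ Fin (j' + r') → F), orth_gen (ψ₁ v.1).2 (ψ₂ u.2).2]
      ring⟩, fun p => rfl⟩
  let Φ₁ : Adapted j' r' g := ⟨φ₁, fun x => by simp [hφ₁], fun y => by simp [hφ₁]⟩
  symm
  refine Nat.card_eq_of_bijective (fun ab => (⟨⟨((spEquiv j' F ab.1).1.prodCongr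
    (spEquiv r' F ab.2).1).trans φ₁.1, fun u v => ?_⟩, fun x => ?_, fun y => ?_⟩ : Adapted j' r' g))
    ⟨fun ab ab' h => ?_, fun φ => ?_⟩
  · rw [LinearEquiv.trans_apply, LinearEquiv.trans_apply, φ₁.2, sumForm_apply, sumForm_apply]
    simp [spEquiv_apply, form_smul_smul]
  · simp [hφ₁]
  · simp [hφ₁]
  · have h' := fun p => congrArg (fun φ : Adapted j' r' g => φ.1.1 p) h
    refine Prod.ext (Linear.Symp.group_ext fun x => ?_) (Linear.Symp.group_ext fun y => ?_)
    · simpa [spEquiv_apply] using congrArg Prod.fst (φ₁.1.injective (h' (x, 0)))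
    · simpa [spEquiv_apply] using congrArg Prod.snd (φ₁.1.injective (h' (0, y)))
  · let ψ : Isom (sumForm j' r' F) (sumForm j' r' F) := ⟨φ.1.1.trans φ₁.1.symm, fun u v => by
      rw [← φ₁.2, LinearEquiv.trans_apply, LinearEquiv.trans_apply, LinearEquiv.apply_symm_apply,
        LinearEquiv.apply_symm_apply, φ.1.2]⟩
    obtain ⟨a, b, hab⟩ := split_isom ψ (fun x => Φ₁.symm_fix (φ.2.1 x))
      (fun y => Φ₁.symm_move (φ.2.2 y))
    refine ⟨(a, b), Subtype.ext (Subtype.ext (LinearEquiv.ext fun p => ?_))⟩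
    show φ₁.1 (a • p.1, b • p.2) = φ.1.1 p
    rw [← hab p]
    exact φ₁.1.apply_symm_apply _

/-- The elements built from an isometry, a unipotent element and a free element. -/
noncomputable def assemble
    (x : Isom (sumForm j r F) (sympBilin (j + r) F) × Unip j F × Free r F) :
    symplecticGroup (Fin (j + r)) F :=
  (spEquiv (j + r) F).symm
    ⟨x.1.1.symm.trans (((spEquiv j F x.2.1.1).1.prodCongr (spEquiv r F x.2.2.1).1).trans x.1.1),
      fun u v => by
        simp only [LinearEquiv.trans_apply, x.1.2, sumForm_apply]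
        simp [spEquiv_apply, form_smul_smul]
        rw [← sumForm_apply, ← x.1.2]
        simp⟩

theorem assemble_smul (x : Isom (sumForm j r F) (sympBilin (j + r) F) × Unip j F × Free r F)
    (p : (Fin j ⊕ Fin j → F) × (Fin r ⊕ Fin r → F)) :
    assemble x • x.1.1 p = x.1.1 (x.2.1.1 • p.1, x.2.2.1 • p.2) := by
  rw [assemble, spEquiv_symm_smul]
  simp [spEquiv_apply]

theorem assemble_pow (x : Isom (sumForm j r F) (sympBilin (j + r) F) × Unip j F × Free r F)
    (n : ℕ) (p : (Fin j ⊕ Fin j → F) × (Fin r ⊕ Fin r → F)) :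
    (shift (assemble x) ^ n) (x.1.1 p) =
      x.1.1 ((shift x.2.1.1 ^ n) p.1, (shift x.2.2.1 ^ n) p.2) := by
  induction n generalizing p with
  | zero => simp
  | succ n ih =>
    rw [pow_succ, pow_succ, pow_succ, Module.End.mul_apply, Module.End.mul_apply,
      Module.End.mul_apply, shift_apply, assemble_smul, ← map_sub, ih]
    simp [shift_apply]

theorem free_pow_injective {e : Free r F} (n : ℕ) : Function.Injective (shift e.1 ^ n) := by
  rw [Module.End.coe_pow]
  refine Function.Injective.iterate ((injective_iff_map_eq_zero _).mpr fun v hv => e.2 v ?_) n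
  rwa [shift_apply, sub_eq_zero] at hv

theorem assemble_adapted (x : Isom (sumForm j r F) (sympBilin (j + r) F) × Unip j F × Free r F) :
    (∀ u, x.1.1 (u, 0) ∈ genFix (assemble x)) ∧ ∀ y, x.1.1 (0, y) ∈ genMove (assemble x) := by
  refine ⟨fun u => ?_, fun y => ?_⟩
  · rw [genFix, LinearMap.mem_ker, assemble_pow, pow_eq_zero_of_nilpotent x.2.1.2 (by omega)]
    simp
  · obtain ⟨z, hz⟩ := (LinearMap.injective_iff_surjective.mp
      (free_pow_injective (e := x.2.2) (2 * (j + r) + 1))) y
    exact ⟨x.1.1 (0, z), by rw [assemble_pow, hz, map_zero]⟩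

theorem finrank_genFix_assemble
    (x : Isom (sumForm j r F) (sympBilin (j + r) F) × Unip j F × Free r F) :
    finrank F (genFix (assemble x)) = 2 * j := by
  let φ : Adapted j r (assemble x) := ⟨x.1, assemble_adapted x⟩
  let f : (Fin j ⊕ Fin j → F) →ₗ[F] (Fin (j + r) ⊕ Fin (j + r) → F) :=
    x.1.1.toLinearMap ∘ₗ LinearMap.inl F _ _
  have hf : LinearMap.range f = genFix (assemble x) := by
    refine le_antisymm ?_ fun w hw => ⟨(x.1.1.symm w).1, ?_⟩
    · rintro _ ⟨u, rfl⟩
      exact φ.2.1 u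
    · show x.1.1 ((x.1.1.symm w).1, 0) = w
      rw [show ((x.1.1.symm w).1, (0 : Fin r ⊕ Fin r → F)) = x.1.1.symm w from
        Prod.ext rfl (φ.symm_fix hw).symm, LinearEquiv.apply_symm_apply]
  rw [← hf, LinearMap.finrank_range_of_inj (show Function.Injective f from
    x.1.1.injective.comp LinearMap.inl_injective),
    finrank_space]

theorem card_genFix_eq [Fintype F] (j r : ℕ) :
    Nat.card {g : symplecticGroup (Fin (j + r)) F // finrank F (genFix g) = 2 * j} *
      (Nat.card (symplecticGroup (Fin j) F) * Nat.card (symplecticGroup (Fin r) F)) =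
    Nat.card (symplecticGroup (Fin (j + r)) F) * (Nat.card (Unip j F) * Nat.card (Free r F)) := by
  classical
  obtain ⟨φ₀⟩ := nonempty_isom_sum j r F
  have hIso : Nat.card (Isom (sumForm j r F) (sympBilin (j + r) F)) =
      Nat.card (symplecticGroup (Fin (j + r)) F) := by
    refine (Nat.card_congr ((spEquiv (j + r) F).trans ?_)).symm
    exact
      { toFun := fun g => ⟨φ₀.1.trans g.1, fun u v => by
          rw [LinearEquiv.trans_apply, LinearEquiv.trans_apply, g.2, φ₀.2]⟩
        invFun := fun φ => ⟨φ₀.1.symm.trans φ.1, fun u v => by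
          rw [LinearEquiv.trans_apply, LinearEquiv.trans_apply, φ.2, ← φ₀.2,
            LinearEquiv.apply_symm_apply, LinearEquiv.apply_symm_apply]⟩
        left_inv := fun g => Subtype.ext (LinearEquiv.ext fun v => by simp)
        right_inv := fun φ => Subtype.ext (LinearEquiv.ext fun v => by simp) }
  let A : Isom (sumForm j r F) (sympBilin (j + r) F) × Unip j F × Free r F →
      {g : symplecticGroup (Fin (j + r)) F // finrank F (genFix g) = 2 * j} :=
    fun x => ⟨assemble x, finrank_genFix_assemble x⟩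
  have hfib : ∀ g, Nat.card {x // A x = g} =
      Nat.card (symplecticGroup (Fin j) F) * Nat.card (symplecticGroup (Fin r) F) := by
    rintro ⟨g, hg⟩
    rw [← Nat.card_prod, ← card_adapted g hg]
    refine Nat.card_eq_of_bijective
      (fun x => (⟨x.1.1, by
        have h : assemble x.1 = g := congrArg Subtype.val x.2
        have h2 : ∀ g', assemble x.1 = g' →
            (∀ u, x.1.1.1 (u, 0) ∈ genFix g') ∧ ∀ y, x.1.1.1 (0, y) ∈ genMove g' := by
          rintro _ rfl
          exact assemble_adapted x.1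
        exact h2 g h⟩ :
        Adapted j r g)) ⟨fun x x' h => ?_, fun φ => ?_⟩
    · obtain ⟨⟨φ, u, e⟩, hx⟩ := x
      obtain ⟨⟨φ', u', e'⟩, hx'⟩ := x'
      have hφ : φ = φ' := congrArg (fun φ : Adapted j r g => φ.1) h
      subst hφ
      have hh : ∀ p : (Fin j ⊕ Fin j → F) × (Fin r ⊕ Fin r → F), φ.1 (u.1 • p.1, e.1 • p.2) = φ.1 (u'.1 • p.1, e'.1 • p.2) := fun p => by
        have hxx : assemble (φ, u, e) = assemble (φ, u', e') :=
          (congrArg Subtype.val hx).trans (congrArg Subtype.val hx').symm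
        have := assemble_smul (φ, u, e) p
        rw [hxx, assemble_smul] at this
        exact this.symm
      refine Subtype.ext (Prod.ext rfl (Prod.ext (Subtype.ext (Linear.Symp.group_ext fun v => ?_))
        (Subtype.ext (Linear.Symp.group_ext fun v => ?_))))
      · exact congrArg Prod.fst (φ.1.injective (hh (v, 0)))
      · exact congrArg Prod.snd (φ.1.injective (hh (0, v)))
    · let ψ : Isom (sumForm j r F) (sumForm j r F) :=
        ⟨(φ.1.1.trans (spEquiv (j + r) F g).1).trans φ.1.1.symm, fun u v => by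
          rw [← φ.1.2]
          simp [spEquiv_apply, form_smul_smul]
          rw [← sympBilin_apply, φ.1.2]⟩
      obtain ⟨u, e, hue⟩ := split_isom ψ (fun x => φ.symm_fix (smul_mem_genFix (φ.2.1 x)))
        (fun y => φ.symm_move (smul_mem_genMove (φ.2.2 y)))
      have hg' : ∀ p, g • φ.1.1 p = φ.1.1 (u • p.1, e • p.2) := fun p => by
        rw [← hue p]
        exact (φ.1.1.apply_symm_apply _).symm
      have hpow : ∀ (n : ℕ) (v : Fin j ⊕ Fin j → F),
          (shift g ^ n) (φ.1.1 (v, 0)) = φ.1.1 ((shift u ^ n) v, 0) := fun n => by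
        induction n with
        | zero => simp
        | succ n ih =>
          intro v
          rw [pow_succ, pow_succ, Module.End.mul_apply, Module.End.mul_apply, shift_apply, hg',
            ← map_sub, shift_apply]
          simpa [Linear.Symp.smul_def] using ih (u • v - v)
      have hu : IsNilpotent (shift u) := ⟨2 * (j + r) + 1, LinearMap.ext fun v => by
        have h0 : (shift g ^ (2 * (j + r) + 1)) (φ.1.1 (v, 0)) = 0 :=
          LinearMap.mem_ker.mp (φ.2.1 v)
        rw [hpow] at h0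
        simpa using congrArg Prod.fst (φ.1.1.map_eq_zero_iff.mp h0)⟩
      have he : ∀ v : Fin r ⊕ Fin r → F, e • v = v → v = 0 := fun v hv => by
        have hfix : g • φ.1.1 (0, v) = φ.1.1 (0, v) := by
          rw [hg', hv]; simp [Linear.Symp.smul_def]
        have h1 : φ.1.1 (0, v) ∈ genFix g :=
          ker_pow_stable g (n := 1) (by rw [pow_one, shift_apply, hfix, sub_self])
        simpa using congrArg Prod.snd
          (φ.1.1.map_eq_zero_iff.mp (eq_zero_of_mem_both h1 (φ.2.2 v)))
      refine ⟨⟨(φ.1, ⟨u, hu⟩, ⟨e, he⟩), Subtype.ext (Linear.Symp.group_ext fun v => ?_)⟩, ?_⟩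
      · obtain ⟨p, rfl⟩ := φ.1.1.surjective v
        exact (assemble_smul (φ.1, ⟨u, hu⟩, ⟨e, he⟩) p).trans (hg' p).symm
      · rfl
  rw [← hIso, ← Nat.card_prod (Unip j F), ← Nat.card_prod (Isom (sumForm j r F) _),
    ← Nat.card_congr (Equiv.sigmaFiberEquiv A)]
  have : Finite (Isom (sumForm j r F) (sympBilin (j + r) F)) := by
    refine Nat.finite_of_card_ne_zero ?_
    rw [hIso]
    exact Nat.card_pos.ne'
  rw [Nat.card_sigma, Finset.sum_congr rfl fun g _ => hfib g, Finset.sum_const, Finset.card_univ,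
    smul_eq_mul, Nat.card_eq_fintype_card]

end CfsgLib.SpUnipCount
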