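import Cfsg.Agent.Lib.SpUnipCount.Orbits

/-!
The proportion of elements of the symplectic group without non-zero fixed vectors.
-/

set_option autoImplicit false

namespace CfsgLib.SpUnipCount

open Matrix CfsgLib.SympGeom CfsgLib.Linear.Symp Cfsg
open Module (finrank Basis)

variable {F : Type*} [Field F] {m k : ℕ}

/-- The space of fixed vectors. -/
def fixedSpace (g : symplecticGroup (Fin m) F) : Submodule F (Fin m ⊕ Fin m → F) where
  carrier := {v | g • v = v}
  add_mem' := fun {a b} ha hb => by
    simp only [Set.mem_ofPred_eq, Linear.Symp.smul_def, mulVec_add] at *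
    rw [ha, hb]
  zero_mem' := by simp [Linear.Symp.smul_def]
  smul_mem' := fun c v hv => by
    simp only [Set.mem_ofPred_eq, Linear.Symp.smul_def, mulVec_smul] at *
    rw [hv]

/-- Elements without non-zero fixed vectors. -/
abbrev Free (m : ℕ) (F : Type*) [Field F] : Type _ :=
  {g : symplecticGroup (Fin m) F // ∀ v : Fin m ⊕ Fin m → F, g • v = v → v = 0}

theorem exists_move {t u : Fin k → (Fin m ⊕ Fin m → F)} (ht : LinearIndependent F t)
    (hu : LinearIndependent F u) (h : gram t = gram u) :
    ∃ g : symplecticGroup (Fin m) F, ∀ i, g • t i = u i := by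
  let b := Basis.span ht
  obtain ⟨f, hf⟩ := LinearMap.exists_extend (b.constr F u)
  have hfi : ∀ i, f (t i) = u i := fun i => by
    have h2 := LinearMap.congr_fun hf (b i)
    rw [LinearMap.comp_apply, Submodule.subtype_apply, b.constr_basis] at h2
    rw [← h2, Basis.span_apply]
  have hcomb : ∀ c : Fin k → F, f (Fintype.linearCombination F t c) =
      Fintype.linearCombination F u c := fun c => by
    simp [Fintype.linearCombination_apply, map_sum, map_smul, hfi]
  obtain ⟨A, hA⟩ := exists_extend (Submodule.span F (Set.range t)) f (fun x hx y hy => by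
      obtain ⟨c, rfl⟩ := (span_eq_range_comb t).le hx
      obtain ⟨d, rfl⟩ := (span_eq_range_comb t).le hy
      rw [hcomb, hcomb]
      have key : ∀ i j, sympForm m F (u i) (u j) = sympForm m F (t i) (t j) := fun i j =>
        (congrFun (congrFun h i) j).symm
      simp only [← sympBilin_apply] at key ⊢
      simp only [Fintype.linearCombination_apply, map_sum, LinearMap.coe_sum, Finset.sum_apply,
        map_smul, LinearMap.smul_apply, key])
    (fun x hx hfx => by
      obtain ⟨c, rfl⟩ := (span_eq_range_comb t).le hx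
      rw [hcomb] at hfx
      rw [hu.fintypeLinearCombination_injective (hfx.trans (map_zero _).symm), map_zero])
  exact ⟨A, fun i => by rw [Linear.Symp.smul_def, hA _ (Submodule.subset_span ⟨i, rfl⟩), hfi]⟩

/-- Independent tuples together with an element fixing them. -/
abbrev FixPair (m : ℕ) (F : Type*) [Field F] (k : ℕ) : Type _ :=
  Σ g : symplecticGroup (Fin m) F,
    {t : Fin k → fixedSpace g // LinearIndependent F t}

theorem card_fixPair [Fintype F] (m k : ℕ) :
    Nat.card (FixPair m F k) =
      Nat.card (Real m F k) * Nat.card (symplecticGroup (Fin m) F) := by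
  classical
  let e1 : FixPair m F k ≃ Σ t : {t : Fin k → (Fin m ⊕ Fin m → F) // LinearIndependent F t},
      {g : symplecticGroup (Fin m) F // ∀ i, g • t.1 i = t.1 i} :=
    { toFun := fun x => ⟨⟨fun i => (x.2.1 i : Fin m ⊕ Fin m → F),
        x.2.2.map' _ (Submodule.ker_subtype _)⟩, x.1, fun i => (x.2.1 i).2⟩
      invFun := fun x => ⟨x.2.1, fun i => ⟨x.1.1 i, x.2.2 i⟩,
        LinearIndependent.of_comp (fixedSpace x.2.1).subtype x.1.2⟩
      left_inv := fun _ => rfl
      right_inv := fun _ => rfl }
  let G : {t : Fin k → (Fin m ⊕ Fin m → F) // LinearIndependent F t} → Real m F k :=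
    fun t => ⟨gram t.1, t.1, t.2, rfl⟩
  let e2 : (Σ t : {t : Fin k → (Fin m ⊕ Fin m → F) // LinearIndependent F t},
      {g : symplecticGroup (Fin m) F // ∀ i, g • t.1 i = t.1 i}) ≃
      Σ A : Real m F k, Σ t : {t // G t = A},
        {g : symplecticGroup (Fin m) F // ∀ i, g • t.1.1 i = t.1.1 i} :=
    { toFun := fun x => ⟨G x.1, ⟨x.1, rfl⟩, x.2⟩
      invFun := fun x => ⟨x.2.1.1, x.2.2⟩
      left_inv := fun _ => rfl
      right_inv := by rintro ⟨A, ⟨t, rfl⟩, g⟩; rfl }
  rw [Nat.card_congr e1, Nat.card_congr e2]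
  have key : ∀ A : Real m F k, Nat.card (Σ t : {t // G t = A},
      {g : symplecticGroup (Fin m) F // ∀ i, g • t.1.1 i = t.1.1 i}) =
      Nat.card (symplecticGroup (Fin m) F) := by
    intro A
    obtain ⟨t₀, ht₀, hA⟩ := A.2
    have hmove : ∀ t : {t // G t = A}, ∃ h : symplecticGroup (Fin m) F, ∀ i, h • t₀ i = t.1.1 i :=
      fun t => exists_move ht₀ t.1.2 (hA.trans (congrArg Subtype.val t.2).symm)
    choose h hh using hmove
    let img : symplecticGroup (Fin m) F → {t // G t = A} := fun g =>
      ⟨⟨fun i => g • t₀ i, (LinearIndependent.map' ht₀ (Matrix.toLin' g.1)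
          (LinearMap.ker_eq_bot.mpr (fun x y hxy => by
            have hxy' : g • x = g • y := by simpa [Linear.Symp.smul_def] using hxy
            simpa using congrArg (g⁻¹ • ·) hxy')))⟩, by
        refine Subtype.ext ?_
        rw [← hA]
        exact Matrix.ext fun i j => form_smul_smul g _ _⟩
    symm
    refine Nat.card_congr ((Equiv.sigmaFiberEquiv img).symm.trans (Equiv.sigmaCongrRight fun t => ?_))
    refine ⟨fun g => ⟨g.1 * (h t)⁻¹, fun i => ?_⟩, fun g => ⟨g.1 * h t, ?_⟩, fun g => ?_, fun g => ?_⟩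
    · rw [mul_smul, ← hh t i, inv_smul_smul, hh t i]
      exact congrFun (congrArg (fun s : {t // G t = A} => s.1.1) g.2) i
    · refine Subtype.ext (Subtype.ext (funext fun i => ?_))
      show (g.1 * h t) • t₀ i = t.1.1 i
      rw [mul_smul, hh t i]
      exact g.2 i
    · exact Subtype.ext (inv_mul_cancel_right _ _)
    · exact Subtype.ext (mul_inv_cancel_right _ _)
  rw [Nat.card_sigma, Finset.sum_congr rfl fun A _ => key A, Finset.sum_const, Finset.card_univ,
    smul_eq_mul, Nat.card_eq_fintype_card (α := Real m F k)]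

theorem card_real [Fintype F] (m k : ℕ) :
    (Nat.card (Real m F k) : ℚ) = ∑ n ∈ Finset.range (m + 1),
      ∑ p ∈ (Finset.HasAntidiagonal.antidiagonal n).filter (fun p => 2 * p.1 + p.2 = k),
        radFormula (Fintype.card F : ℚ) p.1 p.2 := by
  classical
  set P : Finset (ℕ × ℕ) := ((Finset.range (m + 1)).biUnion fun n =>
    Finset.HasAntidiagonal.antidiagonal n).filter (fun p => 2 * p.1 + p.2 = k) with hP
  have hsum : ∑ n ∈ Finset.range (m + 1),
      ∑ p ∈ (Finset.HasAntidiagonal.antidiagonal n).filter (fun p => 2 * p.1 + p.2 = k),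
        radFormula (Fintype.card F : ℚ) p.1 p.2 =
      ∑ p ∈ P, radFormula (Fintype.card F : ℚ) p.1 p.2 := by
    rw [hP, Finset.filter_biUnion, Finset.sum_biUnion]
    intro a _ b _ hab
    simp only [Function.onFun, Finset.disjoint_left, Finset.mem_filter,
      Finset.HasAntidiagonal.mem_antidiagonal, Finset.mem_coe]
    rintro p ⟨rfl, -⟩ ⟨rfl, -⟩
    exact hab rfl
  rw [hsum]
  let key : Real m F k → ℕ × ℕ := fun A => ((k - finrank F (rad A.1)) / 2, finrank F (rad A.1))
  have hkey : ∀ A ∈ (Finset.univ : Finset (Real m F k)), key A ∈ P := fun A _ => by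
    obtain ⟨s, h1, h2⟩ := exists_shape m F k A
    simp only [hP, Finset.mem_filter, Finset.mem_biUnion, Finset.mem_range,
      Finset.HasAntidiagonal.mem_antidiagonal, key]
    exact ⟨⟨_, by omega, rfl⟩, by omega⟩
  rw [Nat.card_eq_fintype_card, ← Finset.card_univ, Finset.card_eq_sum_card_fiberwise hkey,
    Nat.cast_sum]
  refine Finset.sum_congr rfl fun p hp => ?_
  simp only [hP, Finset.mem_filter, Finset.mem_biUnion, Finset.mem_range,
    Finset.HasAntidiagonal.mem_antidiagonal] at hp
  obtain ⟨⟨n, hn, rfl⟩, hk⟩ := hp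
  subst hk
  rw [← radCount_eq (m := m) _ p.1 p.2 rfl (by omega), radCount, Nat.card_eq_fintype_card,
    Fintype.card_subtype]
  congr 2
  ext A
  obtain ⟨s, h1, -⟩ := exists_shape m F _ A
  simp only [key, Prod.ext_iff, Finset.mem_filter, Finset.mem_univ, true_and]
  constructor
  · exact fun h => h.2
  · exact fun h => ⟨by omega, h⟩

theorem card_indep_tuples [Fintype F] (g : symplecticGroup (Fin m) F) (k : ℕ) :
    (Nat.card {t : Fin k → fixedSpace g // LinearIndependent F t} : ℚ) =
      ∏ i ∈ Finset.range k,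
        ((Fintype.card F : ℚ) ^ finrank F (fixedSpace g) - (Fintype.card F : ℚ) ^ i) := by
  classical
  by_cases hk : k ≤ finrank F (fixedSpace g)
  · rw [card_linearIndependent hk, Nat.cast_prod, Finset.prod_range]
    refine Finset.prod_congr rfl fun i _ => ?_
    rw [Nat.cast_sub (Nat.pow_le_pow_right Fintype.card_pos (by omega)), Nat.cast_pow,
      Nat.cast_pow]
  · rw [Finset.prod_eq_zero (Finset.mem_range.mpr (show finrank F (fixedSpace g) < k by omega))
      (sub_self _), Nat.cast_eq_zero, Nat.card_eq_zero]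
    refine Or.inl ⟨fun t => hk ?_⟩
    simpa using t.2.fintype_card_le_finrank

theorem card_free [Fintype F] (m : ℕ) :
    (Nat.card (Free m F) : ℚ) =
      Nat.card (symplecticGroup (Fin m) F) * eCoef (Fintype.card F : ℚ) m := by
  classical
  set q : ℚ := (Fintype.card F : ℚ) with hqdef
  have hq : (1 : ℚ) < q := by rw [hqdef]; exact_mod_cast Fintype.one_lt_card
  set w : ℕ → ℚ := fun k => (-1) ^ k / P1 q k with hw
  have h1 : (Nat.card (Free m F) : ℚ) = ∑ k ∈ Finset.range (2 * m + 1),
      w k * (Nat.card (FixPair m F k) : ℚ) := by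
    simp only [FixPair, Nat.card_sigma, Nat.cast_sum, card_indep_tuples, Finset.mul_sum]
    rw [Finset.sum_comm]
    have : ∀ g : symplecticGroup (Fin m) F,
        ∑ k ∈ Finset.range (2 * m + 1), w k * ∏ i ∈ Finset.range k,
          (q ^ finrank F (fixedSpace g) - q ^ i) =
        if finrank F (fixedSpace g) = 0 then 1 else 0 := fun g =>
      sum_fix_eq q hq _ _ ((Submodule.finrank_le _).trans (le_of_eq finrank_space))
    rw [Finset.sum_congr rfl fun g _ => this g, Finset.sum_boole, Nat.card_eq_fintype_card,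
      Fintype.card_subtype]
    congr 2
    ext g
    simp only [Finset.mem_filter, Finset.mem_univ, true_and, Submodule.finrank_eq_zero,
      Submodule.eq_bot_iff]
    rfl
  rw [h1]
  simp only [card_fixPair, Nat.cast_mul, card_real]
  rw [eCoef, Finset.mul_sum]
  simp only [Finset.mul_sum, Finset.sum_mul, ← hqdef, Finset.sum_filter]
  rw [Finset.sum_comm]
  refine Finset.sum_congr rfl fun n hn => ?_
  rw [Finset.sum_comm]
  refine Finset.sum_congr rfl fun p hp => ?_
  rw [Finset.mem_range] at hn
  rw [Finset.HasAntidiagonal.mem_antidiagonal] at hp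
  rw [Finset.sum_eq_single (2 * p.1 + p.2) (fun b _ hb => by rw [if_neg fun e => hb e.symm]; simp)
    (fun h => absurd (Finset.mem_range.mpr (by omega)) h), if_pos rfl]
  have h2 : (-1 : ℚ) ^ (2 * p.1 + p.2) = (-1) ^ p.2 := by rw [pow_add, pow_mul]; simp
  have h3 := P1_ne q hq (2 * p.1 + p.2)
  simp only [hw, h2, radFormula, aCoef, bCoef]
  field_simp

end CfsgLib.SpUnipCount
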