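import Mathlib

/-!
Generating functions for the count of unipotent and fixed-point-free elements of symplectic groups.
-/

set_option autoImplicit false

namespace CfsgLib.SpUnipCount

open Finset PowerSeries

variable (q : ℚ)

/-- `∏ (q^i - 1)`, `1 ≤ i ≤ k`. -/
def P1 (k : ℕ) : ℚ := ∏ i ∈ range k, (q ^ (i + 1) - 1)

/-- `∏ (q^(2i) - 1)`, `1 ≤ i ≤ k`. -/
def P2 (k : ℕ) : ℚ := ∏ i ∈ range k, (q ^ (2 * (i + 1)) - 1)

/-- The proportion of unipotent elements in `Sp_{2j}`. -/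
def uCoef (j : ℕ) : ℚ := q ^ (j ^ 2) / P2 q j

def aCoef (s : ℕ) : ℚ := q ^ (s ^ 2 - s) / P2 q s

def bCoef (r : ℕ) : ℚ := (-1) ^ r / P1 q r

/-- The proportion of elements without fixed vectors, as a double sum. -/
def eCoef (m : ℕ) : ℚ :=
  ∑ n ∈ range (m + 1), ∑ p ∈ Finset.HasAntidiagonal.antidiagonal n, aCoef q p.1 * bCoef q p.2

theorem pow_sub_one_ne (hq : 1 < q) {k : ℕ} (hk : k ≠ 0) : q ^ k - 1 ≠ 0 := by
  have := one_lt_pow₀ hq hk
  linarith

theorem P1_ne (hq : 1 < q) (k : ℕ) : P1 q k ≠ 0 :=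
  prod_ne_zero_iff.mpr fun _ _ => pow_sub_one_ne q hq (by omega)

theorem P2_ne (hq : 1 < q) (k : ℕ) : P2 q k ≠ 0 :=
  prod_ne_zero_iff.mpr fun _ _ => pow_sub_one_ne q hq (by omega)

noncomputable def lin (c : ℚ) : ℚ⟦X⟧ := 1 - PowerSeries.C c * PowerSeries.X

theorem coeff_zero_lin_mul (c : ℚ) (f : ℕ → ℚ) :
    coeff 0 (lin c * PowerSeries.mk f) = f 0 := by
  simp [lin, sub_mul, mul_assoc]

theorem coeff_succ_lin_mul (c : ℚ) (f : ℕ → ℚ) (n : ℕ) :
    coeff (n + 1) (lin c * PowerSeries.mk f) = f (n + 1) - c * f n := by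
  simp [lin, sub_mul, mul_assoc]

theorem rescale_lin (r c : ℚ) : rescale r (lin c) = lin (r * c) := by
  unfold lin
  rw [map_sub, map_one]
  congr 1
  ext n
  rw [coeff_rescale]
  rcases n with _ | _ | n <;> simp

theorem rescale_u (hq : 1 < q) : rescale (q ^ 2)⁻¹ (PowerSeries.mk (uCoef q)) =
    lin q⁻¹ * PowerSeries.mk (uCoef q) := by
  have hq0 : q ≠ 0 := by linarith
  ext n
  rw [coeff_rescale]
  cases n with
  | zero => rw [coeff_zero_lin_mul]; simp
  | succ n =>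
    rw [coeff_succ_lin_mul, coeff_mk]
    have h1 := P2_ne q hq n
    have h2 := pow_sub_one_ne q hq (show 2 * (n + 1) ≠ 0 by omega)
    rw [inv_pow, ← pow_mul]
    simp only [uCoef, P2, prod_range_succ]
    rw [← P2]
    rw [show (n + 1) ^ 2 = n ^ 2 + 2 * n + 1 by ring, show 2 * (n + 1) = 2 * n + 2 by ring] at *
    simp only [pow_add] at *
    field_simp
    ring

theorem aCoef_eq (hq : 1 < q) (s : ℕ) : aCoef q s = (q⁻¹) ^ s * uCoef q s := by
  have hq0 : q ≠ 0 := by linarith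
  have hle : s ≤ s ^ 2 := Nat.le_self_pow (by omega) s
  have hz := P2_ne q hq s
  simp only [aCoef, uCoef, pow_sub₀ q hq0 hle, inv_pow]
  field_simp

theorem rescale_a (hq : 1 < q) : rescale (q ^ 2)⁻¹ (PowerSeries.mk (aCoef q)) =
    lin (q⁻¹ * q⁻¹) * PowerSeries.mk (aCoef q) := by
  have h : PowerSeries.mk (aCoef q) = rescale q⁻¹ (PowerSeries.mk (uCoef q)) := by
    ext n; simp [coeff_rescale, aCoef_eq q hq]
  rw [h, rescale_rescale, mul_comm, ← rescale_rescale, rescale_u q hq, map_mul, rescale_lin]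

theorem b_eq (hq : 1 < q) : PowerSeries.mk (bCoef q) =
    lin q⁻¹ * rescale q⁻¹ (PowerSeries.mk (bCoef q)) := by
  have hq0 : q ≠ 0 := by linarith
  have h : rescale q⁻¹ (PowerSeries.mk (bCoef q)) = PowerSeries.mk fun n => q⁻¹ ^ n * bCoef q n := by
    ext n; simp [coeff_rescale]
  rw [h]
  ext n
  cases n with
  | zero => rw [coeff_zero_lin_mul]; simp
  | succ n =>
    rw [coeff_succ_lin_mul, coeff_mk]
    have h1 := P1_ne q hq n
    have h2 := pow_sub_one_ne q hq (show n + 1 ≠ 0 by omega)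
    simp only [bCoef, P1, prod_range_succ, inv_pow]
    rw [← P1]
    simp only [pow_succ] at *
    field_simp
    ring

theorem rescale_b (hq : 1 < q) : PowerSeries.mk (bCoef q) =
    lin q⁻¹ * lin (q⁻¹ * q⁻¹) * rescale (q ^ 2)⁻¹ (PowerSeries.mk (bCoef q)) := by
  conv_lhs => rw [b_eq q hq, b_eq q hq, map_mul, rescale_lin, rescale_rescale]
  rw [show q⁻¹ * q⁻¹ = (q ^ 2)⁻¹ by rw [← mul_inv, sq]]
  ring

theorem uab_eq_one (hq : 1 < q) : PowerSeries.mk (uCoef q) *
    (PowerSeries.mk (aCoef q) * PowerSeries.mk (bCoef q)) = 1 := by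
  set S := PowerSeries.mk (uCoef q) * (PowerSeries.mk (aCoef q) * PowerSeries.mk (bCoef q))
  have h : rescale (q ^ 2)⁻¹ S = S := by
    simp only [S, map_mul, rescale_u q hq, rescale_a q hq]
    conv_rhs => rw [rescale_b q hq]
    ring
  ext n
  cases n with
  | zero => simp [S, uCoef, aCoef, bCoef, P1, P2]
  | succ n =>
    have hn := congrArg (coeff (n + 1)) h
    rw [coeff_rescale] at hn
    have hne : ((q ^ 2)⁻¹) ^ (n + 1) ≠ (1 : ℚ) := by
      refine ne_of_lt (pow_lt_one₀ (by positivity) ?_ (by omega))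
      exact inv_lt_one_of_one_lt₀ (one_lt_pow₀ hq (by omega))
    have : coeff (n + 1) S = 0 := by
      by_contra hne'
      exact hne (mul_right_cancel₀ hne' (by simpa using hn))
    simp [this]

theorem eCoef_eq (m : ℕ) : eCoef q m = coeff m
    (PowerSeries.mk (aCoef q) * PowerSeries.mk (bCoef q) * PowerSeries.mk fun _ => (1 : ℚ)) := by
  rw [coeff_mul, Nat.sum_antidiagonal_eq_sum_range_succ_mk]
  simp only [coeff_mk, mul_one, coeff_mul]
  rfl

theorem sum_u_e (hq : 1 < q) (m : ℕ) :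
    ∑ p ∈ Finset.HasAntidiagonal.antidiagonal m, uCoef q p.1 * eCoef q p.2 = 1 := by
  have h := congrArg (coeff m)
    (show PowerSeries.mk (uCoef q) * (PowerSeries.mk (aCoef q) * PowerSeries.mk (bCoef q) *
      PowerSeries.mk fun _ => (1 : ℚ)) = PowerSeries.mk fun _ => (1 : ℚ) by
      rw [← mul_assoc, uab_eq_one q hq, one_mul])
  rw [coeff_mul, coeff_mk] at h
  rw [← h]
  refine sum_congr rfl fun p _ => ?_
  rw [coeff_mk, eCoef_eq]

/-- The telescoping identity behind inclusion and exclusion over subspaces. -/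
theorem sum_fix (hq : 1 < q) (n : ℕ) : ∀ K : ℕ,
    ∑ k ∈ range (K + 1), (-1) ^ k / P1 q k * ∏ i ∈ range k, (q ^ n - q ^ i) =
      (-1) ^ K / P1 q K * ∏ i ∈ range K, (q ^ n - q ^ (i + 1)) := by
  intro K
  induction K with
  | zero => simp [P1]
  | succ K ih =>
    rw [sum_range_succ, ih]
    have h1 := P1_ne q hq K
    have h2 := pow_sub_one_ne q hq (show K + 1 ≠ 0 by omega)
    have h3 : ∏ i ∈ range (K + 1), (q ^ n - q ^ i) =
        (∏ i ∈ range K, (q ^ n - q ^ (i + 1))) * (q ^ n - 1) := by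
      rw [prod_range_succ', pow_zero]
    rw [h3, prod_range_succ (fun i => q ^ n - q ^ (i + 1)) K]
    simp only [P1, prod_range_succ]
    rw [← P1]
    field_simp
    ring

theorem sum_fix_eq (hq : 1 < q) (n N : ℕ) (hn : n ≤ N) :
    ∑ k ∈ range (N + 1), (-1) ^ k / P1 q k * ∏ i ∈ range k, (q ^ n - q ^ i) =
      if n = 0 then 1 else 0 := by
  rw [sum_fix q hq n N]
  split_ifs with h
  · subst h
    rw [P1, div_mul_eq_mul_div, div_eq_one_iff_eq (prod_ne_zero_iff.mpr fun _ _ =>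
      pow_sub_one_ne q hq (by omega))]
    calc (-1 : ℚ) ^ N * ∏ i ∈ range N, (q ^ 0 - q ^ (i + 1))
        = ∏ i ∈ range N, (-1) * (q ^ 0 - q ^ (i + 1)) := by
          rw [prod_mul_distrib, prod_const, card_range]
      _ = _ := prod_congr rfl fun i _ => by ring
  · rw [prod_eq_zero (mem_range.mpr (show n - 1 < N by omega))
      (by rw [Nat.sub_add_cancel (by omega : 1 ≤ n), sub_self]), mul_zero]

end CfsgLib.SpUnipCount
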