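import Cfsg.Agent.Lib.SympGeom.Basic
import Cfsg.Agent.Lib.SpUnipCount.Border
import Cfsg.Agent.Lib.SpUnipCount.Series

/-!
Orbits of the symplectic group on linearly independent tuples, counted through Gram matrices.
-/

set_option autoImplicit false

namespace CfsgLib.SpUnipCount

open Matrix Module CfsgLib.SympGeom CfsgLib.Linear.Symp Cfsg

variable {F : Type*} [Field F] {m k : ℕ}

/-- The Gram matrix of a tuple. -/
def gram (t : Fin k → (Fin m ⊕ Fin m → F)) : Matrix (Fin k) (Fin k) F :=
  Matrix.of fun i j => sympForm m F (t i) (t j)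

theorem gram_alt (t : Fin k → (Fin m ⊕ Fin m → F)) : IsAltMat (gram t) :=
  ⟨fun i => form_self (t i), fun i j => form_swap (t j) (t i)⟩

/-- Gram matrices of linearly independent tuples. -/
abbrev Real (m : ℕ) (F : Type*) [Field F] (k : ℕ) : Type _ :=
  {A : Matrix (Fin k) (Fin k) F //
    ∃ t : Fin k → (Fin m ⊕ Fin m → F), LinearIndependent F t ∧ gram t = A}

/-- The pairing of `v` with a tuple. -/
def pairing (t : Fin k → (Fin m ⊕ Fin m → F)) : (Fin m ⊕ Fin m → F) →ₗ[F] (Fin k → F) :=
  LinearMap.pi fun i => sympBilin m F (t i)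

theorem gram_snoc (t : Fin k → (Fin m ⊕ Fin m → F)) (v : Fin m ⊕ Fin m → F) :
    gram (Fin.snoc t v : Fin (k + 1) → _) = border (gram t) (pairing t v) := by
  ext i j
  induction i using Fin.lastCases <;> induction j using Fin.lastCases <;>
    simp [gram, border, pairing, form_self] <;> exact form_swap _ _

theorem pairing_surjective {t : Fin k → (Fin m ⊕ Fin m → F)} (ht : LinearIndependent F t) :
    Function.Surjective (pairing t) := by
  intro f
  let b := Basis.span ht
  obtain ⟨φ, hφ⟩ := LinearMap.exists_extend (b.constr F f)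
  let v := (LinearMap.BilinForm.toDual (sympBilin m F) sympBilin_nondeg).symm (-φ)
  refine ⟨v, funext fun i => ?_⟩
  have h1 : sympForm m F v (t i) = - φ (t i) := by
    have := LinearMap.BilinForm.apply_toDual_symm_apply (hB := sympBilin_nondeg (m := m) (F := F))
      (-φ) (t i)
    exact this
  show sympForm m F (t i) v = f i
  rw [form_swap v (t i), h1, neg_neg]
  have h2 := LinearMap.congr_fun hφ (b i)
  rw [LinearMap.comp_apply, Submodule.subtype_apply, b.constr_basis] at h2
  rw [← h2, Basis.span_apply]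

theorem finrank_ker_pairing {t : Fin k → (Fin m ⊕ Fin m → F)} (ht : LinearIndependent F t) :
    finrank F (LinearMap.ker (pairing t)) + k = 2 * m := by
  have h := (pairing t).finrank_range_add_finrank_ker
  rw [LinearMap.range_eq_top.mpr (pairing_surjective ht), finrank_top, finrank_fin_fun,
    finrank_space] at h
  omega

theorem pairing_comb (t : Fin k → (Fin m ⊕ Fin m → F)) (u : Fin k → F) :
    pairing t (Fintype.linearCombination F t u) = - (u ᵥ* gram t) := by
  funext i
  simp only [pairing, LinearMap.pi_apply, Fintype.linearCombination_apply, map_sum, map_smul,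
    sympBilin_apply, smul_eq_mul, Pi.neg_apply, vecMul, dotProduct, gram, Matrix.of_apply,
    ← Finset.sum_neg_distrib]
  exact Finset.sum_congr rfl fun j _ => by rw [form_swap (t j) (t i)]; ring

theorem finrank_rad_le {t : Fin k → (Fin m ⊕ Fin m → F)} (ht : LinearIndependent F t) :
    finrank F (rad (gram t)) + k ≤ 2 * m := by
  have hinj := ht.fintypeLinearCombination_injective
  have hle : (rad (gram t)).map (Fintype.linearCombination F t) ≤ LinearMap.ker (pairing t) := by
    rintro _ ⟨u, hu, rfl⟩
    rw [LinearMap.mem_ker, pairing_comb, show u ᵥ* gram t = 0 from hu, neg_zero]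
  have h := Submodule.finrank_mono hle
  rw [← (Submodule.equivMapOfInjective _ hinj _).finrank_eq] at h
  have := finrank_ker_pairing ht
  omega

theorem span_eq_range_comb (t : Fin k → (Fin m ⊕ Fin m → F)) :
    Submodule.span F (Set.range t) = LinearMap.range (Fintype.linearCombination F t) :=
  (Fintype.range_linearCombination F t).symm

/-- Which borders of a realised Gram matrix are realised by independent tuples. -/
theorem realised_iff {t : Fin k → (Fin m ⊕ Fin m → F)} (ht : LinearIndependent F t)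
    (f : Fin k → F) :
    (∃ v, pairing t v = f ∧ v ∉ Submodule.span F (Set.range t)) ↔
      (finrank F (rad (gram t)) + k < 2 * m ∨ f ∉ LinearMap.range (gram t).vecMulLinear) := by
  have hker := finrank_ker_pairing ht
  have hinj := ht.fintypeLinearCombination_injective
  constructor
  · rintro ⟨v, hv, hvT⟩
    by_contra hc
    push Not at hc
    obtain ⟨hr, u, hu⟩ := hc
    have hle : (rad (gram t)).map (Fintype.linearCombination F t) ≤ LinearMap.ker (pairing t) := by
      rintro _ ⟨u, hu, rfl⟩
      rw [LinearMap.mem_ker, pairing_comb, show u ᵥ* gram t = 0 from hu, neg_zero]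
    have heq := Submodule.eq_of_le_of_finrank_le hle (by
      rw [← (Submodule.equivMapOfInjective _ hinj _).finrank_eq]
      omega)
    have hmem : v + Fintype.linearCombination F t u ∈ LinearMap.ker (pairing t) := by
      rw [LinearMap.mem_ker, map_add, pairing_comb, hv, ← Matrix.vecMulLinear_apply, hu,
        add_neg_cancel]
    rw [← heq] at hmem
    obtain ⟨w, -, hw⟩ := hmem
    apply hvT
    rw [span_eq_range_comb]
    exact ⟨w - u, by rw [map_sub, hw, add_sub_cancel_right]⟩
  · intro h
    obtain ⟨v₀, hv₀⟩ := pairing_surjective ht f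
    by_cases hv₀T : v₀ ∈ Submodule.span F (Set.range t)
    · rcases h with h | h
      · have : ¬ LinearMap.ker (pairing t) ≤ Submodule.span F (Set.range t) := by
          intro hle
          have hle' : LinearMap.ker (pairing t) ≤
              (rad (gram t)).map (Fintype.linearCombination F t) := fun x hx => by
            obtain ⟨w, rfl⟩ := (span_eq_range_comb t).le (hle hx)
            refine ⟨w, ?_, rfl⟩
            rw [LinearMap.mem_ker, pairing_comb, neg_eq_zero] at hx
            exact hx
          have := Submodule.finrank_mono hle'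
          rw [← (Submodule.equivMapOfInjective _ hinj _).finrank_eq] at this
          omega
        obtain ⟨z, hz, hzT⟩ := SetLike.not_le_iff_exists.mp this
        refine ⟨v₀ + z, by rw [map_add, hv₀, LinearMap.mem_ker.mp hz, add_zero], fun hh => hzT ?_⟩
        simpa using Submodule.sub_mem _ hh hv₀T
      · exfalso
        obtain ⟨w, hw⟩ := (span_eq_range_comb t).le hv₀T
        refine h ⟨-w, ?_⟩
        rw [map_neg, Matrix.vecMulLinear_apply, ← pairing_comb, hw, hv₀]
    · exact ⟨v₀, hv₀, hv₀T⟩

/-- Realised Gram matrices of size `k + 1` are the realised borders. -/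
noncomputable def succEquiv (m : ℕ) (F : Type*) [Field F] (k : ℕ) :
    (Σ A : Real m F k, {f : Fin k → F //
      finrank F (rad A.1) + k < 2 * m ∨ f ∉ LinearMap.range A.1.vecMulLinear}) ≃
    Real m F (k + 1) := by
  refine Equiv.ofBijective (fun x => ⟨border x.1.1 x.2.1, ?_⟩) ⟨?_, ?_⟩
  · obtain ⟨⟨A, t, ht, rfl⟩, f, hf⟩ := x
    obtain ⟨v, hv, hvT⟩ := (realised_iff ht f).mpr hf
    exact ⟨Fin.snoc t v, linearIndependent_finSnoc.mpr ⟨ht, hvT⟩, by rw [gram_snoc, hv]⟩
  · rintro ⟨⟨A, hA⟩, f, hf⟩ ⟨⟨A', hA'⟩, f', hf'⟩ h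
    have h' := Subtype.ext_iff.mp h
    simp only at h'
    have e1 : A = A' := by
      ext i j
      simpa [border_castSucc] using congrFun (congrFun h' i.castSucc) j.castSucc
    have e2 : f = f' := by
      ext i
      simpa [border_col] using congrFun (congrFun h' i.castSucc) (Fin.last k)
    subst e1 e2
    rfl
  · rintro ⟨A', t, ht, rfl⟩
    have ht' := ht
    rw [← Fin.snoc_init_self t, linearIndependent_finSnoc] at ht'
    refine ⟨⟨⟨gram (Fin.init t), Fin.init t, ht'.1, rfl⟩, pairing (Fin.init t) (t (Fin.last k)),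
      (realised_iff ht'.1 _).mp ⟨t (Fin.last k), rfl, ht'.2⟩⟩, ?_⟩
    refine Subtype.ext ?_
    show border _ _ = _
    rw [← gram_snoc, Fin.snoc_init_self]

/-- The number of realised Gram matrices of size `2 s + r` with radical of dimension `r`. -/
noncomputable def radCount (m : ℕ) (F : Type*) [Field F] (s r : ℕ) : ℕ :=
  Nat.card {A : Real m F (2 * s + r) // finrank F (rad A.1) = r}

theorem exists_shape (m : ℕ) (F : Type*) [Field F] : ∀ (k : ℕ) (A : Real m F k),
    ∃ s, 2 * s + finrank F (rad A.1) = k ∧ s + finrank F (rad A.1) ≤ m := by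
  intro k
  induction k with
  | zero =>
    intro A
    have : finrank F (rad A.1) = 0 :=
      Nat.le_zero.mp (((rad A.1).finrank_le).trans (le_of_eq (finrank_fin_fun F)))
    exact ⟨0, by omega, by omega⟩
  | succ k ih =>
    intro A
    obtain ⟨⟨⟨A₀, hA₀⟩, f, hf⟩, rfl⟩ := (succEquiv m F k).surjective A
    obtain ⟨s, h1, h2⟩ := ih ⟨A₀, hA₀⟩
    obtain ⟨t, ht, hgr⟩ := hA₀
    have halt : IsAltMat A₀ := hgr ▸ gram_alt t
    show ∃ s, 2 * s + finrank F (rad (border A₀ f)) = k + 1 ∧
      s + finrank F (rad (border A₀ f)) ≤ m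
    simp only at h1 h2 hf
    by_cases hm : f ∈ LinearMap.range A₀.vecMulLinear
    · rcases hf with hf | hf
      · rw [finrank_rad_border_of_mem halt hm]
        exact ⟨s, by omega, by omega⟩
      · exact absurd hm hf
    · have := finrank_rad_border_of_notMem halt hm
      exact ⟨s + 1, by omega, by omega⟩

theorem card_borders_with_rad [Fintype F] {A : Matrix (Fin k) (Fin k) F} (hA : IsAltMat A)
    (cond : Prop) [Decidable cond] (r : ℕ) :
    Nat.card {f : Fin k → F // (cond ∨ f ∉ LinearMap.range A.vecMulLinear) ∧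
        finrank F (rad (border A f)) = r} =
      (if cond ∧ finrank F (rad A) + 1 = r
        then Fintype.card F ^ (k - finrank F (rad A)) else 0) +
      (if finrank F (rad A) = r + 1
        then Fintype.card F ^ k - Fintype.card F ^ (k - finrank F (rad A)) else 0) := by
  classical
  set R := LinearMap.range A.vecMulLinear with hR
  by_cases h1 : finrank F (rad A) + 1 = r
  · have h2 : ¬ finrank F (rad A) = r + 1 := by omega
    rw [if_neg h2, add_zero]
    by_cases hc : cond
    · rw [if_pos ⟨hc, h1⟩, ← card_range A]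
      refine Nat.card_congr (Equiv.subtypeEquivRight fun f => ⟨fun h => ?_, fun h =>
        ⟨Or.inl hc, by rw [finrank_rad_border_of_mem hA h, h1]⟩⟩)
      by_contra hn
      have := finrank_rad_border_of_notMem hA hn
      omega
    · rw [if_neg fun h => hc h.1, Nat.card_eq_zero]
      refine Or.inl ⟨fun f => ?_⟩
      have := finrank_rad_border_of_notMem hA (f.2.1.resolve_left hc)
      have := f.2.2
      omega
  · rw [if_neg fun h => h1 h.2, zero_add]
    by_cases h2 : finrank F (rad A) = r + 1
    · rw [if_pos h2, Nat.card_congr (Equiv.subtypeEquivRight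
        (q := fun f => ¬ f ∈ R) fun f => ⟨fun h hm => ?_, fun h =>
          ⟨Or.inr h, by have := finrank_rad_border_of_notMem hA h; omega⟩⟩)]
      · rw [← card_range A, ← hR]
        simp only [Nat.card_eq_fintype_card, Fintype.card_subtype_compl, Fintype.card_fun,
          Fintype.card_fin]
      · have := finrank_rad_border_of_mem hA hm
        omega
    · rw [if_neg h2, Nat.card_eq_zero]
      refine Or.inl ⟨fun f => ?_⟩
      by_cases hm : f.1 ∈ R
      · have := finrank_rad_border_of_mem hA hm
        have := f.2.2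
        omega
      · have := finrank_rad_border_of_notMem hA hm
        have := f.2.2
        omega

theorem card_rad_succ [Fintype F] (k r : ℕ) :
    Nat.card {A : Real m F (k + 1) // finrank F (rad A.1) = r} =
      (if 1 ≤ r ∧ r + k ≤ 2 * m then Fintype.card F ^ (k + 1 - r) *
        Nat.card {A : Real m F k // finrank F (rad A.1) + 1 = r} else 0) +
      (Fintype.card F ^ k - Fintype.card F ^ (k - (r + 1))) *
        Nat.card {A : Real m F k // finrank F (rad A.1) = r + 1} := by
  classical
  let e : {A : Real m F (k + 1) // finrank F (rad A.1) = r} ≃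
      Σ A : Real m F k, {f : Fin k → F //
        (finrank F (rad A.1) + k < 2 * m ∨ f ∉ LinearMap.range A.1.vecMulLinear) ∧
          finrank F (rad (border A.1 f)) = r} :=
    ((succEquiv m F k).subtypeEquivOfSubtype).symm.trans
      { toFun := fun x => ⟨x.1.1, x.1.2.1, x.1.2.2, x.2⟩
        invFun := fun x => ⟨⟨x.1, x.2.1, x.2.2.1⟩, x.2.2.2⟩
        left_inv := fun _ => rfl
        right_inv := fun _ => rfl }
  rw [Nat.card_congr e, Nat.card_sigma]
  have key : ∀ A : Real m F k, Nat.card {f : Fin k → F //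
        (finrank F (rad A.1) + k < 2 * m ∨ f ∉ LinearMap.range A.1.vecMulLinear) ∧
          finrank F (rad (border A.1 f)) = r} =
      (if finrank F (rad A.1) + 1 = r then
        (if 1 ≤ r ∧ r + k ≤ 2 * m then Fintype.card F ^ (k + 1 - r) else 0) else 0) +
      (if finrank F (rad A.1) = r + 1
        then Fintype.card F ^ k - Fintype.card F ^ (k - (r + 1)) else 0) := by
    rintro ⟨A, t, ht, rfl⟩
    rw [card_borders_with_rad (gram_alt t)]
    have hb := finrank_rad_le ht
    dsimp only
    congr 1
    · by_cases h : finrank F (rad (gram t)) + 1 = r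
      · rw [if_pos h, show k + 1 - r = k - finrank F (rad (gram t)) by omega]
        refine if_congr ⟨fun hh => ⟨by omega, by omega⟩, fun hh => ⟨by omega, h⟩⟩ rfl rfl
      · rw [if_neg h, if_neg fun hh => h hh.2]
    · by_cases h : finrank F (rad (gram t)) = r + 1
      · rw [if_pos h, if_pos h, h]
      · rw [if_neg h, if_neg h]
  rw [Finset.sum_congr rfl fun A _ => key A, Finset.sum_add_distrib]
  congr 1
  · by_cases hc : 1 ≤ r ∧ r + k ≤ 2 * m
    · simp only [if_pos hc, ← Finset.sum_filter, Finset.sum_const, smul_eq_mul,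
        Nat.card_eq_fintype_card, Fintype.card_subtype]
      exact mul_comm _ _
    · simp only [if_neg hc, ite_self, Finset.sum_const_zero]
  · simp only [← Finset.sum_filter, Finset.sum_const, smul_eq_mul, Nat.card_eq_fintype_card,
      Fintype.card_subtype]
    exact mul_comm _ _

theorem sq_sub_succ (s : ℕ) : (s + 1) ^ 2 - (s + 1) = (s ^ 2 - s) + 2 * s := by
  have := Nat.le_self_pow (show (2 : ℕ) ≠ 0 by omega) s
  rw [show (s + 1) ^ 2 = s ^ 2 + 2 * s + 1 by ring]
  omega

theorem alg_one (q Z X M W : ℚ) (hW : W ≠ 0) (h1 : q - 1 ≠ 0) (h2 : X * q ^ 2 - 1 ≠ 0) :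
    (X * q - X) * (Z * M / (W * (q - 1))) =
      Z * X * (M * (X * q ^ 2 - 1)) / (W * (X * q ^ 2 - 1) * 1) := by
  field_simp

theorem alg_two (q Z X Y M W R : ℚ) (hW : W ≠ 0) (hR : R ≠ 0) (h2 : X * q ^ 2 - 1 ≠ 0)
    (h3 : Y * q - 1 ≠ 0) (h4 : Y * q ^ 2 - 1 ≠ 0) :
    X * q ^ 2 * (Z * X * M / (W * (X * q ^ 2 - 1) * R)) +
      (X * Y * q ^ 2 - X) * (Z * M / (W * (R * (Y * q - 1) * (Y * q ^ 2 - 1)))) =
      Z * X * (M * (X * Y * q ^ 3 - 1)) / (W * (X * q ^ 2 - 1) * (R * (Y * q - 1))) := by
  rw [show X * Y * q ^ 2 - X = X * (Y * q ^ 2 - 1) by ring,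
    show X * Y * q ^ 3 - 1 = X * q ^ 2 * (Y * q - 1) + (X * q ^ 2 - 1) by ring]
  generalize X * q ^ 2 - 1 = A at *
  generalize Y * q - 1 = B at *
  generalize Y * q ^ 2 - 1 = C at *
  field_simp

/-- The closed form of `radCount`. -/
def radFormula (q : ℚ) (s r : ℕ) : ℚ :=
  q ^ (s ^ 2 - s) * P1 q (2 * s + r) / (P2 q s * P1 q r)

theorem radCount_eq [Fintype F] : ∀ (k s r : ℕ), 2 * s + r = k → s + r ≤ m →
    (radCount m F s r : ℚ) = radFormula (Fintype.card F : ℚ) s r := by
  classical
  have hq : (1 : ℚ) < (Fintype.card F : ℚ) := by exact_mod_cast Fintype.one_lt_card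
  have h1le : 1 ≤ Fintype.card F := Fintype.card_pos
  intro k
  induction k with
  | zero =>
    intro s r h hm
    obtain ⟨rfl, rfl⟩ : s = 0 ∧ r = 0 := by omega
    have : IsEmpty (Fin (2 * 0 + 0)) := Fin.isEmpty'
    rw [show radFormula (Fintype.card F : ℚ) 0 0 = 1 by simp [radFormula, P1, P2], ← Nat.cast_one]
    congr 1
    rw [radCount, Nat.card_eq_one_iff_unique]
    refine ⟨⟨fun a b => Subtype.ext (Subtype.ext (funext fun i => i.elim0))⟩,
      ⟨⟨⟨gram (Fin.elim0 : Fin 0 → (Fin m ⊕ Fin m → F)), _, linearIndependent_empty_type, rfl⟩,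
        Nat.le_zero.mp (((rad _).finrank_le).trans (le_of_eq (finrank_fin_fun F)))⟩⟩⟩
  | succ k ih =>
    intro s r h hm
    have hcast : (radCount m F s r : ℕ) =
        Nat.card {A : Real m F (k + 1) // finrank F (rad A.1) = r} := by
      unfold radCount
      rw [h]
    rw [hcast, card_rad_succ, Nat.cast_add, Nat.cast_mul]
    set q : ℚ := (Fintype.card F : ℚ) with hqdef
    have hq0 : q ≠ 0 := by linarith
    have hA : ((if 1 ≤ r ∧ r + k ≤ 2 * m then Fintype.card F ^ (k + 1 - r) *
        Nat.card {A : Real m F k // finrank F (rad A.1) + 1 = r} else 0 : ℕ) : ℚ) =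
        if r = 0 then 0 else q ^ (2 * s) * radFormula q s (r - 1) := by
      rcases Nat.eq_zero_or_pos r with hr | hr
      · rw [if_neg (show ¬(1 ≤ r ∧ r + k ≤ 2 * m) by omega), if_pos hr, Nat.cast_zero]
      · rw [if_pos (show 1 ≤ r ∧ r + k ≤ 2 * m by omega), if_neg (show ¬ r = 0 by omega),
          Nat.cast_mul, Nat.cast_pow,
          show k + 1 - r = 2 * s by omega, ← ih s (r - 1) (by omega) (by omega)]
        congr 2
        obtain ⟨r', rfl⟩ : ∃ r', r = r' + 1 := ⟨r - 1, by omega⟩
        obtain rfl : k = 2 * s + r' := by omega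
        simp only [radCount, Nat.add_sub_cancel]
        exact Nat.card_congr (Equiv.subtypeEquivRight fun A => add_left_inj 1)
    rw [hA]
    have hB : (((Fintype.card F ^ k - Fintype.card F ^ (k - (r + 1))) : ℕ) : ℚ) *
        (Nat.card {A : Real m F k // finrank F (rad A.1) = r + 1} : ℚ) =
        if s = 0 then 0 else
          (q ^ (2 * (s - 1) + r + 1) - q ^ (2 * (s - 1))) * radFormula q (s - 1) (r + 1) := by
      rcases Nat.eq_zero_or_pos s with hs | hs
      · rw [if_pos hs]
        have : Nat.card {A : Real m F k // finrank F (rad A.1) = r + 1} = 0 := by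
          rw [Nat.card_eq_zero]
          refine Or.inl ⟨fun A => ?_⟩
          obtain ⟨s', h1, -⟩ := exists_shape m F k A.1
          have := A.2
          omega
        rw [this, Nat.cast_zero, mul_zero]
      · obtain ⟨s', rfl⟩ : ∃ s', s = s' + 1 := ⟨s - 1, by omega⟩
        obtain rfl : k = 2 * s' + (r + 1) := by omega
        rw [if_neg (show ¬ s' + 1 = 0 by omega)]
        simp only [Nat.add_sub_cancel]
        rw [← ih s' (r + 1) rfl (by omega),
          Nat.cast_sub (Nat.pow_le_pow_right h1le (by omega)), Nat.cast_pow, Nat.cast_pow,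
          show 2 * s' + (r + 1) = 2 * s' + r + 1 by omega]
        rfl
    rw [hB]
    -- the identity
    rcases Nat.eq_zero_or_pos r with hr | hr <;> rcases Nat.eq_zero_or_pos s with hs | hs
    · omega
    · subst hr
      obtain ⟨s', rfl⟩ : ∃ s', s = s' + 1 := ⟨s - 1, by omega⟩
      rw [if_pos rfl, if_neg (show ¬ s' + 1 = 0 by omega), zero_add, Nat.add_sub_cancel]
      have e1 : radFormula q s' (0 + 1) =
          q ^ (s' ^ 2 - s') * P1 q (2 * s' + 1) / (P2 q s' * (q - 1)) := by
        simp [radFormula, P1]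
      have e2 : radFormula q (s' + 1) 0 = q ^ (s' ^ 2 - s') * q ^ (2 * s') *
          (P1 q (2 * s' + 1) * (q ^ (2 * s') * q ^ 2 - 1)) /
          (P2 q s' * (q ^ (2 * s') * q ^ 2 - 1) * 1) := by
        rw [radFormula, sq_sub_succ, pow_add, show 2 * (s' + 1) + 0 = (2 * s' + 1) + 1 by omega,
          show P1 q ((2 * s' + 1) + 1) = P1 q (2 * s' + 1) * (q ^ (2 * s' + 1 + 1) - 1) from
            Finset.prod_range_succ _ _,
          show P2 q (s' + 1) = P2 q s' * (q ^ (2 * (s' + 1)) - 1) from Finset.prod_range_succ _ _,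
          show P1 q 0 = 1 from rfl, ← pow_add, ← pow_add,
          show 2 * (s' + 1) = 2 * s' + 2 by omega, show 2 * s' + 1 + 1 = 2 * s' + 2 by omega]
      rw [e1, e2, show 2 * s' + 0 + 1 = 2 * s' + 1 by omega, pow_add q (2 * s') 1, pow_one]
      refine alg_one q _ _ _ _ (P2_ne q hq s') (by linarith) ?_
      rw [← pow_add]
      exact pow_sub_one_ne q hq (by omega)
    · subst hs
      obtain ⟨r', rfl⟩ : ∃ r', r = r' + 1 := ⟨r - 1, by omega⟩
      rw [if_neg (show ¬ r' + 1 = 0 by omega), if_pos rfl, Nat.add_sub_cancel, add_zero]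
      simp [radFormula, P2, P1_ne q hq r', P1_ne q hq (r' + 1)]
    · obtain ⟨r', rfl⟩ : ∃ r', r = r' + 1 := ⟨r - 1, by omega⟩
      obtain ⟨s', rfl⟩ : ∃ s', s = s' + 1 := ⟨s - 1, by omega⟩
      rw [if_neg (show ¬ r' + 1 = 0 by omega), if_neg (show ¬ s' + 1 = 0 by omega),
        Nat.add_sub_cancel, Nat.add_sub_cancel]
      have hR1 : P1 q (r' + 1) = P1 q r' * (q ^ r' * q - 1) := by
        rw [show P1 q (r' + 1) = P1 q r' * (q ^ (r' + 1) - 1) from Finset.prod_range_succ _ _,
          pow_succ]
      have hR2 : P1 q (r' + 1 + 1) = P1 q r' * (q ^ r' * q - 1) * (q ^ r' * q ^ 2 - 1) := by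
        rw [show P1 q (r' + 1 + 1) = P1 q (r' + 1) * (q ^ (r' + 1 + 1) - 1) from
          Finset.prod_range_succ _ _, hR1, ← pow_add]
      have hS : P2 q (s' + 1) = P2 q s' * (q ^ (2 * s') * q ^ 2 - 1) := by
        rw [show P2 q (s' + 1) = P2 q s' * (q ^ (2 * (s' + 1)) - 1) from Finset.prod_range_succ _ _,
          ← pow_add, show 2 * (s' + 1) = 2 * s' + 2 by omega]
      have hM : P1 q (2 * (s' + 1) + (r' + 1)) =
          P1 q (2 * s' + r' + 2) * (q ^ (2 * s') * q ^ r' * q ^ 3 - 1) := by
        rw [show 2 * (s' + 1) + (r' + 1) = (2 * s' + r' + 2) + 1 by omega,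
          show P1 q (2 * s' + r' + 2 + 1) = P1 q (2 * s' + r' + 2) * (q ^ (2 * s' + r' + 2 + 1) - 1)
            from Finset.prod_range_succ _ _, ← pow_add, ← pow_add,
          show 2 * s' + r' + 3 = 2 * s' + r' + 2 + 1 by omega]
      simp only [radFormula, sq_sub_succ, hR1, hR2, hS, hM,
        show 2 * (s' + 1) + r' = 2 * s' + r' + 2 by omega,
        show 2 * s' + (r' + 1 + 1) = 2 * s' + r' + 2 by omega]
      rw [show q ^ (2 * s' + (r' + 1) + 1) = q ^ (2 * s') * q ^ r' * q ^ 2 by
          rw [← pow_add, ← pow_add]; congr 1,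
        show q ^ (2 * (s' + 1)) = q ^ (2 * s') * q ^ 2 by rw [← pow_add]; congr 1,
        show q ^ (s' ^ 2 - s' + 2 * s') = q ^ (s' ^ 2 - s') * q ^ (2 * s') from pow_add _ _ _]
      refine alg_two q _ _ _ _ _ _ (P2_ne q hq s') (P1_ne q hq r') ?_ ?_ ?_
      · rw [← pow_add]; exact pow_sub_one_ne q hq (by omega)
      · rw [← pow_succ]; exact pow_sub_one_ne q hq (by omega)
      · rw [← pow_add]; exact pow_sub_one_ne q hq (by omega)

end CfsgLib.SpUnipCount
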